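import Groth.Agent.Variety.K422.GlueLine
import Mathlib.AlgebraicGeometry.Morphisms.ClosedImmersion

/-!
# Gluing invertible modules along a finite closed cover with discrete intersections

`exists_glue_closed`: `X` reduced, `f k : Z k ⟶ X` finitely many closed immersions with images covering `X` and
pairwise intersections discrete; then any family of invertible modules `N k` on `Z k` comes from an invertible
module on `X`.
-/

set_option autoImplicit false
universe u
open CategoryTheory CategoryTheory.Limits AlgebraicGeometry TopologicalSpace Opposite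
open Groth.Agent.Fdesc.LocGen

namespace K422.ClosedUnion

lemma bijective_app_of_isIso_restrict {X Y : Scheme.{u}} (f : X ⟶ Y) (U : Y.Opens) [IsIso (f ∣_ U)] :
    Function.Bijective (f.app U) := by
  have h1 : IsIso (f.app (U.ι ''ᵁ ⊤)) := by
    have h2 := morphismRestrict_appTop f U
    have h3 : IsIso (f.app (U.ι ''ᵁ ⊤) ≫
        X.presheaf.map (eqToHom (image_morphismRestrict_preimage f U ⊤)).op) := by
      rw [← h2]; exact inferInstanceAs (IsIso ((f ∣_ U).app ⊤))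
    exact IsIso.of_isIso_comp_right _
      (X.presheaf.map (eqToHom (image_morphismRestrict_preimage f U ⊤)).op)
  rw [U.ι_image_top] at h1
  exact ConcreteCategory.bijective_of_isIso (f.app U)

/-- A closed immersion into a reduced scheme is an isomorphism over the opens contained in its range. -/
lemma bijective_app_of_le_range {X Y : Scheme.{u}} (f : X ⟶ Y) [IsClosedImmersion f] [IsReduced Y]
    (U : Y.Opens) (hU : (U : Set Y) ⊆ Set.range f) : Function.Bijective (f.app U) := by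
  have : Surjective (f ∣_ U) := by
    refine ⟨fun y => ?_⟩
    obtain ⟨x, hx⟩ := hU y.2
    refine ⟨⟨x, ?_⟩, ?_⟩
    · show f x ∈ U
      rw [hx]; exact y.2
    · exact Subtype.ext ((morphismRestrict_base_coe f U _).trans hx)
  have : IsIso (f ∣_ U) := isIso_of_isClosedImmersion_of_surjective _
  exact bijective_app_of_isIso_restrict f U

section

variable {X : Scheme.{u}} {κ : Type*} {Z : κ → Scheme.{u}} (f : ∀ k, Z k ⟶ X)

lemma injective_app [IsReduced X] (hcov : ⋃ k, Set.range (f k) = Set.univ) (T : X.Opens)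
    (a b : Γ(X, T)) (h : ∀ k, ((f k).app T a : Γ(Z k, f k ⁻¹ᵁ T)) = (f k).app T b) : a = b := by
  rw [← sub_eq_zero, ← basicOpen_eq_bot_iff, eq_bot_iff]
  intro x hx
  have h1 : x ∈ ⋃ k, Set.range (f k) := by rw [hcov]; trivial
  obtain ⟨k, z, rfl⟩ := Set.mem_iUnion.mp h1
  have h2 : z ∈ f k ⁻¹ᵁ X.basicOpen (a - b) := hx
  rw [Scheme.preimage_basicOpen, map_sub, h k, sub_self, Scheme.basicOpen_zero] at h2
  exact h2

lemma surjective_app [IsReduced X] [∀ k, IsClosedImmersion (f k)] [Finite κ]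
    (hcov : ⋃ k, Set.range (f k) = Set.univ) (O : X.Opens)
    (hO : ∀ i j, i ≠ j → Disjoint (O : Set X) (Set.range (f i) ∩ Set.range (f j)))
    (c : ∀ k, Γ(Z k, f k ⁻¹ᵁ O)) : ∃ a : Γ(X, O), ∀ k, ((f k).app O a : Γ(Z k, f k ⁻¹ᵁ O)) = c k := by
  classical
  let P : κ → X.Opens := fun k => O ⊓ ⟨(⋃ j : {j // j ≠ k}, Set.range (f j))ᶜ, by
    rw [isOpen_compl_iff]
    exact isClosed_iUnion_of_finite fun j => (f j).isClosedEmbedding.isClosed_range⟩
  have hPmem : ∀ k x, x ∈ P k ↔ x ∈ O ∧ ∀ j, j ≠ k → x ∉ Set.range (f j) := by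
    intro k x
    constructor
    · rintro ⟨h1, h2⟩
      refine ⟨h1, fun j hj hx => h2 (Set.mem_iUnion.mpr ⟨⟨j, hj⟩, hx⟩)⟩
    · rintro ⟨h1, h2⟩
      refine ⟨h1, fun hx => ?_⟩
      obtain ⟨⟨j, hj⟩, hx⟩ := Set.mem_iUnion.mp hx
      exact h2 j hj hx
  have hPO : ∀ k, P k ≤ O := fun k => inf_le_left
  have hPr : ∀ k, (P k : Set X) ⊆ Set.range (f k) := by
    intro k x hx
    have h1 : x ∈ ⋃ k, Set.range (f k) := by rw [hcov]; trivial
    obtain ⟨j, hj⟩ := Set.mem_iUnion.mp h1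
    by_cases hjk : j = k
    · rw [← hjk]; exact hj
    · exact absurd hj (((hPmem k x).mp hx).2 j hjk)
  have hPcov : O ≤ ⨆ k, P k := by
    intro x hx
    have h1 : x ∈ ⋃ k, Set.range (f k) := by rw [hcov]; trivial
    obtain ⟨k, hk⟩ := Set.mem_iUnion.mp h1
    refine Opens.mem_iSup.mpr ⟨k, (hPmem k x).mpr ⟨hx, fun j hj hxj => ?_⟩⟩
    exact Set.disjoint_left.mp (hO j k hj) hx ⟨hxj, hk⟩
  have hPdisj : ∀ i j, i ≠ j → P i ⊓ P j = ⊥ := by
    intro i j hij
    rw [eq_bot_iff]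
    rintro x ⟨h1, h2⟩
    exact absurd (hPr j h2) (((hPmem i x).mp h1).2 j (Ne.symm hij))
  -- the preimage of `P k` under `f k` is everything
  have hfP : ∀ k, f k ⁻¹ᵁ O ≤ f k ⁻¹ᵁ P k := by
    intro k z hz
    exact (hPmem k _).mpr ⟨hz, fun j hj hx => Set.disjoint_left.mp (hO j k hj) hz ⟨hx, z, rfl⟩⟩
  have h1 : ∀ k, ∃ a : Γ(X, P k), ((f k).app (P k) a : Γ(Z k, f k ⁻¹ᵁ P k)) =
      ores ((f k).preimage_mono (hPO k)) (c k) := fun k =>
    (bijective_app_of_le_range (f k) (P k) (hPr k)).2 _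
  choose a ha using h1
  obtain ⟨b, hb⟩ := ores_glue (V := O) P hPO hPcov a (fun i j => by
    by_cases hij : i = j
    · subst hij; rfl
    · have : Subsingleton Γ(X, P i ⊓ P j) := by rw [hPdisj i j hij]; infer_instance
      exact Subsingleton.elim _ _)
  refine ⟨b, fun k => ?_⟩
  have h2 := congrArg (fun y : Γ(X, P k) => ((f k).app (P k) y : Γ(Z k, f k ⁻¹ᵁ P k))) (hb k)
  simp only [GlueLine.app_ores] at h2
  rw [ha k] at h2
  have h3 := congrArg (ores (hfP k)) h2
  simpa only [ores_ores, ores_refl] using h3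

end

/-- Finitely many local properties hold on a common neighbourhood. -/
lemma exists_nhds_of_finite {α : Type*} [TopologicalSpace α] {κ : Type*} [Finite κ] (x : α)
    (P : κ → Opens α → Prop) (hP : ∀ k (U V : Opens α), V ≤ U → P k U → P k V)
    (h : ∀ k, ∃ U : Opens α, x ∈ U ∧ P k U) : ∃ U : Opens α, x ∈ U ∧ ∀ k, P k U := by
  choose U hxU hU using h
  refine ⟨⟨⋂ k, (U k : Set α), isOpen_iInter_of_finite fun k => (U k).isOpen⟩,
    Set.mem_iInter.mpr hxU, fun k => hP k (U k) _ (fun y hy => Set.mem_iInter.mp hy k) (hU k)⟩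

/-- A closed discrete subset is locally at most one point. -/
lemma exists_inter_subset {α : Type*} [TopologicalSpace α] (S : Set α) (hS : IsClosed S)
    (hd : DiscreteTopology S) (x : α) : ∃ U : Opens α, x ∈ U ∧ (U : Set α) ∩ S ⊆ {x} := by
  by_cases hx : x ∈ S
  · obtain ⟨U, hU, hUx⟩ := isOpen_induced_iff.mp ((discreteTopology_iff_isOpen_singleton.mp hd) ⟨x, hx⟩)
    refine ⟨⟨U, hU⟩, ?_, ?_⟩
    · have : (⟨x, hx⟩ : S) ∈ Subtype.val ⁻¹' U := by rw [hUx]; rfl
      exact this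
    · rintro y ⟨hyU, hyS⟩
      have : (⟨y, hyS⟩ : S) ∈ Subtype.val ⁻¹' U := hyU
      rw [hUx] at this
      exact congrArg Subtype.val this
  · exact ⟨⟨Sᶜ, hS.isOpen_compl⟩, hx, fun y hy => absurd hy.2 hy.1⟩

/-- A generator of `N` exists on the preimage of a neighbourhood of any point of the target of a closed immersion. -/
lemma exists_gen {X Z : Scheme.{u}} (f : Z ⟶ X) [IsClosedImmersion f] (N : Z.Modules)
    (hN : PicF.IsInvertible N) (x : X) :
    ∃ W : X.Opens, x ∈ W ∧ ∃ n : Γ(N, f ⁻¹ᵁ W), IsGen n := by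
  by_cases hx : x ∈ Set.range f
  · obtain ⟨z, rfl⟩ := hx
    obtain ⟨U, e, hzU, he⟩ := (isInvertible_iff N).mp hN z
    obtain ⟨W, hW, hWU⟩ := f.isClosedEmbedding.isInducing.isOpen_iff.mp U.isOpen
    have h1 : f ⁻¹ᵁ (⟨W, hW⟩ : X.Opens) ≤ U := fun y hy => by
      have : y ∈ f ⁻¹' W := hy
      rw [hWU] at this; exact this
    refine ⟨⟨W, hW⟩, ?_, res N h1 e, he.res h1⟩
    have : z ∈ f ⁻¹' W := by rw [hWU]; exact hzU
    exact this
  · refine ⟨⟨(Set.range f)ᶜ, f.isClosedEmbedding.isClosed_range.isOpen_compl⟩, hx, 0, ?_⟩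
    refine IsGen.of_cover (ι := PEmpty.{1}) (fun i => i.elim) (fun i => i.elim) (fun z hz => ?_)
      (fun i => i.elim)
    exact absurd ⟨z, rfl⟩ hz

theorem exists_glue_closed {X : Scheme.{u}} [IsReduced X] {κ : Type*} [Finite κ] {Z : κ → Scheme.{u}}
    (f : ∀ k, Z k ⟶ X) [∀ k, IsClosedImmersion (f k)] (hcov : ⋃ k, Set.range (f k) = Set.univ)
    (hdisc : ∀ i j, i ≠ j → DiscreteTopology ↥(Set.range (f i) ∩ Set.range (f j)))
    (N : ∀ k, (Z k).Modules) (hN : ∀ k, PicF.IsInvertible (N k)) :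
    ∃ L : X.Modules, PicF.IsInvertible L ∧
      ∀ k, Nonempty ((Scheme.Modules.pullback (f k)).obj L ≅ N k) := by
  have h1 : ∀ x : X, ∃ W : X.Opens, x ∈ W ∧ (∀ k, ∃ n : Γ(N k, f k ⁻¹ᵁ W), IsGen n) ∧
      ∀ i j, i ≠ j → (W : Set X) ∩ (Set.range (f i) ∩ Set.range (f j)) ⊆ {x} := by
    intro x
    obtain ⟨W₁, hx₁, hW₁⟩ := exists_nhds_of_finite x (fun k W => ∃ n : Γ(N k, f k ⁻¹ᵁ W), IsGen n)
      (fun k U V hVU ⟨n, hn⟩ => ⟨res (N k) ((f k).preimage_mono hVU) n, hn.res _⟩)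
      (fun k => exists_gen (f k) (N k) (hN k) x)
    obtain ⟨W₂, hx₂, hW₂⟩ := exists_nhds_of_finite (κ := κ × κ) x (fun k W => k.1 ≠ k.2 →
        (W : Set X) ∩ (Set.range (f k.1) ∩ Set.range (f k.2)) ⊆ {x})
      (fun k U V hVU h hk y hy => h hk ⟨hVU hy.1, hy.2⟩)
      (fun k => by
        by_cases hk : k.1 = k.2
        · exact ⟨⊤, trivial, fun h => absurd hk h⟩
        · obtain ⟨U, hxU, hU⟩ := exists_inter_subset (Set.range (f k.1) ∩ Set.range (f k.2))
            ((f k.1).isClosedEmbedding.isClosed_range.inter (f k.2).isClosedEmbedding.isClosed_range)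
            (hdisc k.1 k.2 hk) x
          exact ⟨U, hxU, fun _ => hU⟩)
    refine ⟨W₁ ⊓ W₂, ⟨hx₁, hx₂⟩, fun k => ?_, fun i j hij y hy => hW₂ (i, j) hij ⟨hy.1.2, hy.2⟩⟩
    obtain ⟨n, hn⟩ := hW₁ k
    exact ⟨res (N k) ((f k).preimage_mono inf_le_left) n, hn.res _⟩
  choose W hxW hWn hW using h1
  choose n hn using hWn
  obtain ⟨L, -, hL, -, -, hiso⟩ := GlueLine.exists_glue f N W
    (eq_top_iff.mpr fun x _ => Opens.mem_iSup.mpr ⟨x, hxW x⟩) n hn
    (fun i j _ T _ a b h => injective_app f hcov T a b h)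
    (fun x y hxy c => surjective_app f hcov (W x ⊓ W y) (fun i j hij => by
      rw [Set.disjoint_left]
      intro z hz hz'
      have h1 : z = x := hW x i j hij ⟨hz.1, hz'⟩
      have h2 : z = y := hW y i j hij ⟨hz.2, hz'⟩
      exact hxy (h1.symm.trans h2)) c)
  exact ⟨L, hL, hiso⟩

end K422.ClosedUnion
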