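import Groth.Agent.Variety.K422.AffineNbhd2
import Groth.Agent.Ega1.ReducedSub
import Groth.Agent.S0440

/-! Finite sets of points in affine opens: images of points of an affine scheme under a morphism
which is an isomorphism on local rings; reduction to the reduced case. -/

set_option autoImplicit false

universe u

open CategoryTheory CategoryTheory.Limits AlgebraicGeometry TopologicalSpace Opposite

namespace K422.AffineNbhd

theorem isGen_iff {X : Type*} [TopologicalSpace X] [T0Space X] [QuasiSober X] (x : X) :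
    closure {x} ∈ irreducibleComponents X ↔ ∀ η, η ⤳ x → η = x := by
  constructor
  · intro h η hη
    exact generic_unique h hη
  · intro h
    obtain ⟨η, hη, hηx⟩ := exists_generic x
    rwa [← h η hηx]

/-- For a homeomorphism-like morphism, generic points correspond. -/
theorem isGen_map_iff {X Y : Scheme.{u}} (i : X ⟶ Y) (hi : Topology.IsEmbedding i)
    (hs : Function.Surjective i) (x : X) :
    closure {i x} ∈ irreducibleComponents (Y : Type u) ↔
      closure {x} ∈ irreducibleComponents (X : Type u) := by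
  rw [isGen_iff, isGen_iff]
  constructor
  · intro h η hη
    exact hi.injective (h _ (hη.map i.continuous))
  · intro h η hη
    obtain ⟨η', rfl⟩ := hs η
    rw [h η' (hi.isInducing.specializes_iff.mp hη)]

theorem finite_irreducibleComponents {X Y : Scheme.{u}} (i : X ⟶ Y) (hi : Topology.IsEmbedding i)
    (hs : Function.Surjective i) (hY : (irreducibleComponents (Y : Type u)).Finite) :
    (irreducibleComponents (X : Type u)).Finite := by
  have h1 : (genericPoints (Y : Type u)).Finite := genericPoints.finite hY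
  have h2 : (genericPoints (X : Type u)).Finite := by
    refine Set.Finite.of_finite_image (f := i) (h1.subset ?_) hi.injective.injOn
    rintro _ ⟨x, hx, rfl⟩
    exact (isGen_map_iff i hi hs x).mpr hx
  refine (h2.image (fun x => closure {x})).subset ?_
  intro Z hZ
  obtain ⟨η, hη⟩ := QuasiSober.sober hZ.1 (isClosed_of_mem_irreducibleComponents Z hZ)
  refine ⟨η, ?_, hη.def⟩
  show closure {η} ∈ irreducibleComponents _
  rw [hη.def]; exact hZ

/-- Generizations lift along morphisms inducing an isomorphism of local rings. -/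
theorem exists_lift_specializes {T X : Scheme.{u}} (f : T ⟶ X) (t : T) [IsIso (f.stalkMap t)] (y : X)
    (hy : y ⤳ f t) : ∃ y', y' ⤳ t ∧ f y' = y := by
  have h1 : y ∈ Set.range (X.fromSpecStalk (f t)) := by
    rw [Scheme.range_fromSpecStalk]; exact hy
  obtain ⟨p, rfl⟩ := h1
  obtain ⟨p', rfl⟩ : ∃ p', Spec.map (f.stalkMap t) p' = p :=
    ⟨inv (Spec.map (f.stalkMap t)) p, by rw [← Scheme.Hom.comp_apply, IsIso.inv_hom_id]; rfl⟩
  refine ⟨T.fromSpecStalk t p', ?_, ?_⟩
  · have : T.fromSpecStalk t p' ∈ Set.range (T.fromSpecStalk t) := ⟨p', rfl⟩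
    rw [Scheme.range_fromSpecStalk] at this
    exact this
  · rw [← Scheme.Hom.comp_apply, ← Scheme.Hom.comp_apply, Scheme.SpecMap_stalkMap_fromSpecStalk]

theorem exists_affineOpen {T X : Scheme.{u}} (f : T ⟶ X) [IsAffine T] [QuasiSeparatedSpace X]
    (hX : (irreducibleComponents (X : Type u)).Finite)
    (hgen : ∀ η : T, closure ({η} : Set T) ∈ irreducibleComponents (T : Type u) →
      closure ({f η} : Set X) ∈ irreducibleComponents (X : Type u))
    (hinj : ∀ η η' : T, closure ({η} : Set T) ∈ irreducibleComponents (T : Type u) →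
      closure ({η'} : Set T) ∈ irreducibleComponents (T : Type u) → f η = f η' → η = η')
    (S : Finset T) (hs : ∀ t ∈ S, IsIso (f.stalkMap t)) :
    ∃ U : X.Opens, IsAffineOpen U ∧ ∀ t ∈ S, f t ∈ U := by
  classical
  let T₀ := T.nilradical.subscheme
  let X₀ := X.nilradical.subscheme
  let iT : T₀ ⟶ T := T.nilradical.subschemeι
  let iX : X₀ ⟶ X := X.nilradical.subschemeι
  have hrT : AlgebraicGeometry.IsReduced T₀ := by
    show AlgebraicGeometry.IsReduced T.nilradical.subscheme
    rw [← Scheme.IdealSheafData.radical_bot]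
    exact Groth.Agent.Ega1.ReducedSub.isReduced_subscheme_radical _
  have hrX : AlgebraicGeometry.IsReduced X₀ := by
    show AlgebraicGeometry.IsReduced X.nilradical.subscheme
    rw [← Scheme.IdealSheafData.radical_bot]
    exact Groth.Agent.Ega1.ReducedSub.isReduced_subscheme_radical _
  have hsT : Function.Surjective iT := by
    rw [← Set.range_eq_univ, Scheme.IdealSheafData.range_subschemeι, Scheme.support_nilradical]
    rfl
  have hsX : Function.Surjective iX := by
    rw [← Set.range_eq_univ, Scheme.IdealSheafData.range_subschemeι, Scheme.support_nilradical]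
    rfl
  have heT := iT.isEmbedding
  have heX := iX.isEmbedding
  obtain ⟨f₀, hf₀⟩ := Groth.Agent.Ega1.ReducedSub.exists_factor_of_range_subset (iT ≫ f) iX
    (by rw [hsX.range_eq]; exact Set.subset_univ _)
  have hf₀' : ∀ t, iX (f₀ t) = f (iT t) := by
    intro t
    rw [← Scheme.Hom.comp_apply, ← Scheme.Hom.comp_apply, hf₀]
  have haT : IsAffine T₀ := isAffine_of_isAffineHom iT
  have hqX : QuasiSeparatedSpace X₀ := quasiSeparatedSpace_of_quasiSeparated iX
  obtain ⟨U₀, hU₀, hSU₀⟩ := exists_affineOpen_of_isReduced f₀ (finite_irreducibleComponents iX heX hsX hX)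
    (by
      intro η hη
      rw [← isGen_map_iff iX heX hsX, hf₀']
      exact hgen _ ((isGen_map_iff iT heT hsT η).mpr hη))
    (by
      intro η η' hη hη' h
      apply heT.injective
      apply hinj _ _ ((isGen_map_iff iT heT hsT η).mpr hη) ((isGen_map_iff iT heT hsT η').mpr hη')
      rw [← hf₀', ← hf₀', h])
    (S.preimage iT heT.injective.injOn)
    (by
      intro t ht
      have ht' : iT t ∈ S := Finset.mem_preimage.mp ht
      have := hs _ ht'
      have h1 : ∀ g : T₀ ⟶ X, g = iT ≫ f → Function.Surjective (g.stalkMap t) := by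
        rintro _ rfl
        rw [Scheme.Hom.stalkMap_comp]
        have h2 : Function.Surjective (iT.stalkMap t) := iT.stalkMap_surjective t
        have h3 : Function.Surjective (f.stalkMap (iT t)) :=
          (ConcreteCategory.bijective_of_isIso (f.stalkMap (iT t))).2
        intro z
        obtain ⟨z1, rfl⟩ := h2 z
        obtain ⟨z2, rfl⟩ := h3 z1
        exact ⟨z2, rfl⟩
      have h4 := h1 _ hf₀
      rw [Scheme.Hom.stalkMap_comp] at h4
      intro z
      obtain ⟨w, hw⟩ := h4 z
      exact ⟨iX.stalkMap (f₀ t) w, hw⟩)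
    (by
      intro t ht y hy
      have ht' : iT t ∈ S := Finset.mem_preimage.mp ht
      have := hs _ ht'
      have h1 : iX y ⤳ f (iT t) := by
        rw [← hf₀']; exact hy.map iX.continuous
      obtain ⟨y', hy', hfy'⟩ := exists_lift_specializes f (iT t) (iX y) h1
      obtain ⟨y₀, rfl⟩ := hsT y'
      refine ⟨y₀, heT.isInducing.specializes_iff.mp hy', heX.injective ?_⟩
      rw [hf₀', hfy'])
  obtain ⟨U', hU', hUU'⟩ := heX.isInducing.isOpen_iff.mp U₀.isOpen
  let U : X.Opens := ⟨U', hU'⟩
  have hUeq : iX ⁻¹ᵁ U = U₀ := by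
    ext1; exact hUU'
  refine ⟨U, ?_, ?_⟩
  · have h1 : IsAffine (iX ⁻¹ᵁ U : Scheme.{u}) := by rw [hUeq]; exact hU₀
    have h2 : Function.Surjective (iX ∣_ U) := by
      intro x
      obtain ⟨y, hy⟩ := hsX (U.ι x)
      have hyU : y ∈ iX ⁻¹ᵁ U := by
        show iX y ∈ U
        rw [hy]; exact x.2
      obtain ⟨z, rfl⟩ : y ∈ Set.range (iX ⁻¹ᵁ U).ι := by rw [Scheme.Opens.range_ι]; exact hyU
      refine ⟨z, ?_⟩
      apply U.ι.isEmbedding.injective
      rw [← Scheme.Hom.comp_apply, morphismRestrict_ι, Scheme.Hom.comp_apply]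
      exact hy
    exact Groth.Agent.S0440.result (iX ∣_ U) h2
  · intro t ht
    obtain ⟨t₀, rfl⟩ := hsT t
    have h1 := hSU₀ t₀ (Finset.mem_preimage.mpr ht)
    rw [← hUeq] at h1
    have h2 : iX (f₀ t₀) ∈ U := h1
    rwa [hf₀'] at h2

end K422.AffineNbhd
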