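import Groth.Agent.S0593
import Groth.Agent.S0440
import Groth.Agent.S7661
import Groth.Agent.S2127

/-! Finite sets of points in affine opens: glueing along closed subsets. -/

set_option autoImplicit false

universe u

open CategoryTheory CategoryTheory.Limits AlgebraicGeometry TopologicalSpace

namespace K422.AffineUnion

variable {X : Scheme.{u}}

/-- `T ∩ C` lies in an open of `C` which is the image of an immersion of an affine scheme. -/
def P (T C : Set X) : Prop :=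
  ∃ (Y : Scheme.{u}) (i : Y ⟶ X) (U : X.Opens), IsAffine Y ∧ IsPreimmersion i ∧
    Set.range i = C ∩ U ∧ T ∩ C ⊆ U

theorem exists_open {Y : Scheme.{u}} (i : Y ⟶ X) [IsPreimmersion i] (C : Set X) (U : X.Opens)
    (h : Set.range i = C ∩ U) (O : Y.Opens) : ∃ O' : X.Opens, i '' (O : Set Y) = C ∩ O' := by
  obtain ⟨t, ht, hti⟩ := i.isEmbedding.isInducing.isOpen_iff.mp O.isOpen
  refine ⟨U ⊓ ⟨t, ht⟩, ?_⟩
  rw [← hti, Set.image_preimage_eq_inter_range, h]
  ext x
  constructor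
  · rintro ⟨h1, h2, h3⟩; exact ⟨h2, h3, h1⟩
  · rintro ⟨h1, h2, h3⟩; exact ⟨h3, h1, h2⟩

theorem range_ι_comp {Y : Scheme.{u}} (i : Y ⟶ X) (O : Y.Opens) :
    Set.range (O.ι ≫ i) = i '' (O : Set Y) := by
  rw [Scheme.Hom.comp_base, TopCat.coe_comp, Set.range_comp, Scheme.Opens.range_ι]

/-- The prime ideal of global functions vanishing at a point. -/
noncomputable def pr {Y : Scheme.{u}} (y : Y) : Ideal Γ(Y, ⊤) := (Y.toSpecΓ y).asIdeal

theorem isPrime_pr {Y : Scheme.{u}} (y : Y) : (pr y).IsPrime := (Y.toSpecΓ y).isPrime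

theorem mem_basicOpen_iff {Y : Scheme.{u}} (y : Y) (f : Γ(Y, ⊤)) : y ∈ Y.basicOpen f ↔ f ∉ pr y := by
  rw [← Y.toSpecΓ_preimage_basicOpen]
  rfl

/-- A global function on a closed subscheme of an affine scheme lifts to one which does not vanish
at finitely many given points outside. -/
theorem exists_lift {Y Q : Scheme.{u}} [IsAffine Y] (p : Q ⟶ Y) [IsClosedImmersion p] (q : Γ(Q, ⊤))
    (E : Set Y) (hE : E.Finite) (hEp : ∀ y ∈ E, y ∉ Set.range p) :
    ∃ g : Γ(Y, ⊤), p.appTop g = q ∧ E ⊆ Y.basicOpen g := by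
  classical
  obtain ⟨hQ, hsurj⟩ := IsClosedImmersion.isAffine_surjective_of_isAffine p
  obtain ⟨g₀, hg₀⟩ := hsurj q
  let s : Finset (Ideal Γ(Y, ⊤)) := hE.toFinset.image pr
  have hs : ∀ P ∈ s, P.IsPrime := by
    intro P hP
    obtain ⟨y, -, rfl⟩ := Finset.mem_image.mp hP
    exact isPrime_pr y
  have hI : ∀ P ∈ s, ¬ RingHom.ker p.appTop.hom ≤ P := by
    intro P hP hle
    obtain ⟨y, hy, rfl⟩ := Finset.mem_image.mp hP
    have hy' : y ∉ Set.range p := hEp y (hE.mem_toFinset.mp hy)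
    have hcl : IsClosed (Set.range p) := p.isClosedEmbedding.isClosed_range
    obtain ⟨h, -, hh1, hh2⟩ := Groth.Agent.S2127.exists_basicOpen (X := Y)
      ⟨(Set.range p)ᶜ, hcl.isOpen_compl⟩ {y} (Set.finite_singleton y) (by
        rintro _ rfl; exact hy')
    have hbot : Q.basicOpen (p.appTop h) = ⊥ := by
      rw [← Scheme.preimage_basicOpen_top]
      rw [eq_bot_iff]
      intro z hz
      exact (hh2 hz ⟨z, rfl⟩).elim
    obtain ⟨n, hn⟩ := (Scheme.isNilpotent_iff_basicOpen_eq_bot _).mpr hbot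
    have h1 : h ^ n ∈ RingHom.ker p.appTop.hom := by
      rw [RingHom.mem_ker, map_pow]; exact hn
    have h2 := (isPrime_pr y).mem_of_pow_mem n (hle h1)
    exact (mem_basicOpen_iff y h).mp (hh1 rfl) h2
  obtain ⟨c, hc, hcs⟩ := Groth.Agent.S7661.coset_avoid (RingHom.ker p.appTop.hom) s.card s rfl hs hI g₀
  refine ⟨g₀ + c, ?_, fun y hy => ?_⟩
  · have hc' : p.appTop c = 0 := hc
    rw [map_add, hg₀, hc', add_zero]
  · rw [SetLike.mem_coe, mem_basicOpen_iff]
    exact hcs _ (Finset.mem_image.mpr ⟨y, hE.mem_toFinset.mpr hy, rfl⟩)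

theorem P_union (T : Set X) (hT : T.Finite) (A B : Set X) (hA : IsClosed A) (hB : IsClosed B)
    (h1 : P T A) (h2 : P T B) : P T (A ∪ B) := by
  obtain ⟨Y, i, UA, hY, hi, hiU, hTA⟩ := h1
  obtain ⟨Z, j, UB, hZ, hj, hjU, hTB⟩ := h2
  -- the first open
  have hclA : IsClosed (A \ UA) := hA.sdiff UA.isOpen
  have hclB : IsClosed (B \ UB) := hB.sdiff UB.isOpen
  let X' : X.Opens := ⟨((A \ UA) ∪ (B \ UB))ᶜ, (hclA.union hclB).isOpen_compl⟩
  have hmi : ∀ y : Y, i y ∈ A ∧ i y ∈ UA := by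
    intro y
    have : i y ∈ A ∩ UA := by rw [← hiU]; exact ⟨y, rfl⟩
    exact this
  have hmj : ∀ z : Z, j z ∈ B ∧ j z ∈ UB := by
    intro z
    have : j z ∈ B ∩ UB := by rw [← hjU]; exact ⟨z, rfl⟩
    exact this
  obtain ⟨f, hfaff, hf1, hf2⟩ := Groth.Agent.S2127.exists_basicOpen (X := Y) (i ⁻¹ᵁ X') (i ⁻¹' T)
    (hT.preimage i.isEmbedding.injective.injOn) (by
      intro y hy
      show i y ∈ X'
      rintro (⟨-, h⟩ | ⟨h, h'⟩)
      · exact h (hmi y).2
      · exact h' (hTB ⟨hy, h⟩))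
  let Y₁ : Scheme.{u} := (Y.basicOpen f : Scheme.{u})
  let i₁ : Y₁ ⟶ X := (Y.basicOpen f).ι ≫ i
  have hY₁ : IsAffine Y₁ := hfaff
  obtain ⟨OA, hOA⟩ := exists_open i A UA hiU (Y.basicOpen f)
  have hri₁ : Set.range i₁ = A ∩ OA := by rw [range_ι_comp, hOA]
  have hmi₁ : ∀ y : Y₁, i₁ y ∈ A ∧ i₁ y ∈ OA ∧ i₁ y ∈ X' := by
    intro y
    have h : i₁ y ∈ A ∩ OA := by rw [← hri₁]; exact ⟨y, rfl⟩
    refine ⟨h.1, h.2, ?_⟩
    exact hf2 y.2
  have hTY₁ : ∀ t ∈ T, t ∈ A → t ∈ Set.range i₁ := by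
    intro t ht htA
    obtain ⟨y, rfl⟩ : t ∈ Set.range i := by rw [hiU]; exact ⟨htA, hTA ⟨ht, htA⟩⟩
    rw [range_ι_comp]
    exact ⟨y, hf1 ht, rfl⟩
  -- the second open
  have hclA' : IsClosed (A \ OA) := hA.sdiff OA.isOpen
  let X'' : X.Opens := ⟨((B \ UB) ∪ (A \ OA))ᶜ, (hclB.union hclA').isOpen_compl⟩
  obtain ⟨g, hgaff, hg1, hg2⟩ := Groth.Agent.S2127.exists_basicOpen (X := Z) (j ⁻¹ᵁ X'') (j ⁻¹' T)
    (hT.preimage j.isEmbedding.injective.injOn) (by
      intro z hz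
      show j z ∈ X''
      rintro (⟨-, h⟩ | ⟨h, h'⟩)
      · exact h (hmj z).2
      · have := hTY₁ _ hz h
        rw [hri₁] at this
        exact h' this.2)
  obtain ⟨OB, hOB⟩ := exists_open j B UB hjU (Z.basicOpen g)
  -- the fibre product
  let p1 := pullback.fst i₁ j
  let p2 := pullback.snd i₁ j
  have hrange : Set.range p1 = i₁ ⁻¹' B := by
    have h0 : Set.range p1 = i₁ ⁻¹' (Set.range j) := Scheme.Pullback.range_fst i₁ j
    rw [h0, hjU]
    ext y
    constructor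
    · intro h; exact h.1
    · intro h
      refine ⟨h, ?_⟩
      by_contra hcon
      exact (hmi₁ y).2.2 (Or.inr ⟨h, hcon⟩)
  have hp1 : IsClosedImmersion p1 :=
    IsClosedImmersion.of_isPreimmersion _ (by rw [hrange]; exact hB.preimage i₁.continuous)
  obtain ⟨g', hg'1, hg'2⟩ := exists_lift p1 (p2.appTop g) (i₁ ⁻¹' T ∩ (Set.range p1)ᶜ)
    ((hT.preimage i₁.isEmbedding.injective.injOn).inter_of_left _) (fun y hy => hy.2)
  have hkey : ∀ w, p1 w ∈ Y₁.basicOpen g' ↔ p2 w ∈ Z.basicOpen g := by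
    intro w
    have e1 : p1 ⁻¹ᵁ Y₁.basicOpen g' = (pullback i₁ j).basicOpen (p1.appTop g') :=
      Scheme.preimage_basicOpen_top _ _
    have e2 : p2 ⁻¹ᵁ Z.basicOpen g = (pullback i₁ j).basicOpen (p2.appTop g) :=
      Scheme.preimage_basicOpen_top _ _
    have e3 : p1 ⁻¹ᵁ Y₁.basicOpen g' = p2 ⁻¹ᵁ Z.basicOpen g := by rw [e1, e2, hg'1]
    exact (SetLike.ext_iff.mp e3 w)
  have hcond : ∀ w, i₁ (p1 w) = j (p2 w) := by
    intro w
    have := pullback.condition (f := i₁) (g := j)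
    calc i₁ (p1 w) = (p1 ≫ i₁) w := rfl
      _ = (p2 ≫ j) w := by rw [this]
      _ = j (p2 w) := rfl
  have hTg' : ∀ y : Y₁, i₁ y ∈ T → y ∈ Y₁.basicOpen g' := by
    intro y hy
    by_cases hyp : y ∈ Set.range p1
    · obtain ⟨w, rfl⟩ := hyp
      rw [hkey]
      apply hg1
      show j (p2 w) ∈ T
      rw [← hcond]; exact hy
    · exact hg'2 ⟨hy, hyp⟩
  -- the new charts
  let Y₂ : Scheme.{u} := (Y₁.basicOpen g' : Scheme.{u})
  let i₂ : Y₂ ⟶ X := (Y₁.basicOpen g').ι ≫ i₁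
  let Z₂ : Scheme.{u} := (Z.basicOpen g : Scheme.{u})
  let j₂ : Z₂ ⟶ X := (Z.basicOpen g).ι ≫ j
  have hY₂ : IsAffine Y₂ := (isAffineOpen_top Y₁).basicOpen g'
  have hZ₂ : IsAffine Z₂ := hgaff
  obtain ⟨OA', hOA'⟩ := exists_open i₁ A OA hri₁ (Y₁.basicOpen g')
  have hri₂ : Set.range i₂ = A ∩ OA' := by rw [range_ι_comp, hOA']
  have hrj₂ : Set.range j₂ = B ∩ OB := by rw [range_ι_comp, hOB]
  have hclA₂ : IsClosed (A \ OA') := hA.sdiff OA'.isOpen
  have hclB₂ : IsClosed (B \ OB) := hB.sdiff OB.isOpen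
  let U : X.Opens := ⟨((A \ OA') ∪ (B \ OB))ᶜ, (hclA₂.union hclB₂).isOpen_compl⟩
  have hUA : A ∩ U = Set.range i₂ := by
    rw [hri₂]
    ext x
    constructor
    · rintro ⟨h1, h2⟩
      refine ⟨h1, ?_⟩
      by_contra hcon
      exact h2 (Or.inl ⟨h1, hcon⟩)
    · rintro ⟨h1, h2⟩
      refine ⟨h1, ?_⟩
      rintro (⟨-, h⟩ | ⟨hxB, hxO⟩)
      · exact h h2
      · have hx : x ∈ i₁ '' (Y₁.basicOpen g' : Set Y₁) := by rw [hOA']; exact ⟨h1, h2⟩
        obtain ⟨y, hy, rfl⟩ := hx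
        have hyp : y ∈ Set.range p1 := by rw [hrange]; exact hxB
        obtain ⟨w, rfl⟩ := hyp
        apply hxO
        have h3 : p2 w ∈ Z.basicOpen g := (hkey w).mp hy
        have h4 : i₁ (p1 w) ∈ j '' (Z.basicOpen g : Set Z) := ⟨p2 w, h3, (hcond w).symm⟩
        rw [hOB] at h4
        exact h4.2
  have hUB : B ∩ U = Set.range j₂ := by
    rw [hrj₂]
    ext x
    constructor
    · rintro ⟨h1, h2⟩
      refine ⟨h1, ?_⟩
      by_contra hcon
      exact h2 (Or.inr ⟨h1, hcon⟩)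
    · rintro ⟨h1, h2⟩
      refine ⟨h1, ?_⟩
      rintro (⟨hxA, hxO⟩ | ⟨-, h⟩)
      · have hx : x ∈ j '' (Z.basicOpen g : Set Z) := by rw [hOB]; exact ⟨h1, h2⟩
        obtain ⟨z, hz, rfl⟩ := hx
        have hz'' : j z ∈ X'' := hg2 hz
        have hzOA : j z ∈ OA := by
          by_contra hcon
          exact hz'' (Or.inr ⟨hxA, hcon⟩)
        obtain ⟨y, hy⟩ : j z ∈ Set.range i₁ := by rw [hri₁]; exact ⟨hxA, hzOA⟩
        have hyp : y ∈ Set.range p1 := by
          rw [hrange]; show i₁ y ∈ B; rw [hy]; exact h1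
        obtain ⟨w, rfl⟩ := hyp
        have hw : p2 w = z := by
          apply j.isEmbedding.injective
          rw [← hcond, hy]
        apply hxO
        have h3 : p1 w ∈ Y₁.basicOpen g' := by rw [hkey, hw]; exact hz
        have h4 : j z ∈ i₁ '' (Y₁.basicOpen g' : Set Y₁) := ⟨p1 w, h3, hy⟩
        rw [hOA'] at h4
        exact h4.2
      · exact h h2
  have hTU : T ∩ (A ∪ B) ⊆ U := by
    rintro t ⟨ht, -⟩
    rintro (⟨htA, hO⟩ | ⟨htB, hO⟩)
    · obtain ⟨y, rfl⟩ := hTY₁ t ht htA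
      apply hO
      have : i₁ y ∈ i₁ '' (Y₁.basicOpen g' : Set Y₁) := ⟨y, hTg' y ht, rfl⟩
      rw [hOA'] at this
      exact this.2
    · obtain ⟨z, rfl⟩ : t ∈ Set.range j := by rw [hjU]; exact ⟨htB, hTB ⟨ht, htB⟩⟩
      apply hO
      have : j z ∈ j '' (Z.basicOpen g : Set Z) := ⟨z, hg1 ht, rfl⟩
      rw [hOB] at this
      exact this.2
  -- the closed immersions into `U`
  have hιU : Set.range U.ι = (U : Set X) := Scheme.Opens.range_ι U
  let a : Y₂ ⟶ (U : Scheme.{u}) := IsOpenImmersion.lift U.ι i₂ (by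
    rw [hιU, ← hUA]; exact Set.inter_subset_right)
  let b : Z₂ ⟶ (U : Scheme.{u}) := IsOpenImmersion.lift U.ι j₂ (by
    rw [hιU, ← hUB]; exact Set.inter_subset_right)
  have hac : a ≫ U.ι = i₂ := IsOpenImmersion.lift_fac _ _ _
  have hbc : b ≫ U.ι = j₂ := IsOpenImmersion.lift_fac _ _ _
  have hra : Set.range a = U.ι ⁻¹' A := by
    have h : U.ι '' Set.range a = A ∩ U := by
      rw [hUA, ← hac, ← Set.range_comp]; rfl
    apply U.ι.isEmbedding.injective.image_injective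
    rw [h, Set.image_preimage_eq_inter_range, hιU]
  have hrb : Set.range b = U.ι ⁻¹' B := by
    have h : U.ι '' Set.range b = B ∩ U := by
      rw [hUB, ← hbc, ← Set.range_comp]; rfl
    apply U.ι.isEmbedding.injective.image_injective
    rw [h, Set.image_preimage_eq_inter_range, hιU]
  have hpa : IsPreimmersion a := by
    have : IsPreimmersion (a ≫ U.ι) := by rw [hac]; infer_instance
    exact IsPreimmersion.of_comp a U.ι
  have hpb : IsPreimmersion b := by
    have : IsPreimmersion (b ≫ U.ι) := by rw [hbc]; infer_instance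
    exact IsPreimmersion.of_comp b U.ι
  have hca : IsClosedImmersion a := IsClosedImmersion.of_isPreimmersion _ (by
    rw [hra]; exact hA.preimage U.ι.continuous)
  have hcb : IsClosedImmersion b := IsClosedImmersion.of_isPreimmersion _ (by
    rw [hrb]; exact hB.preimage U.ι.continuous)
  let q : Y₂ ⨿ Z₂ ⟶ (U : Scheme.{u}) := coprod.desc a b
  have hq : IsIntegralHom q := inferInstance
  have hrq : Set.range q = U.ι ⁻¹' (A ∪ B) := by
    rw [Set.preimage_union, ← hra, ← hrb]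
    have h1 : coprod.inl ≫ q = a := coprod.inl_desc a b
    have h2 : coprod.inr ≫ q = b := coprod.inr_desc a b
    ext x
    constructor
    · rintro ⟨w, rfl⟩
      have hw : w ∈ Set.range (coprod.inl : Y₂ ⟶ Y₂ ⨿ Z₂) ∪ Set.range (coprod.inr : Z₂ ⟶ Y₂ ⨿ Z₂) := by
        have htop := (isCompl_range_inl_inr Y₂ Z₂).sup_eq_top
        have htop' : Set.range (coprod.inl : Y₂ ⟶ Y₂ ⨿ Z₂) ∪ Set.range (coprod.inr : Z₂ ⟶ Y₂ ⨿ Z₂) =
          Set.univ := htop
        rw [htop']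
        exact Set.mem_univ w
      rcases hw with ⟨y, rfl⟩ | ⟨z, rfl⟩
      · left; exact ⟨y, by rw [← h1]; rfl⟩
      · right; exact ⟨z, by rw [← h2]; rfl⟩
    · rintro (⟨y, rfl⟩ | ⟨z, rfl⟩)
      · exact ⟨(coprod.inl : Y₂ ⟶ Y₂ ⨿ Z₂) y, by rw [← h1]; rfl⟩
      · exact ⟨(coprod.inr : Z₂ ⟶ Y₂ ⨿ Z₂) z, by rw [← h2]; rfl⟩
  have hW : IsAffine q.image := by
    have h1 : UniversallyClosed (q.toImage ≫ q.imageι) := by rw [q.toImage_imageι]; infer_instance
    have h2 : UniversallyClosed q.toImage := UniversallyClosed.of_comp_of_isSeparated _ q.imageι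
    have h3 : Surjective q.toImage := by
      refine ⟨Set.range_eq_univ.mp ?_⟩
      have hcl : IsClosed (Set.range q.toImage) := q.toImage.isClosedMap.isClosed_range
      rw [← hcl.closure_eq]
      exact q.toImage.denseRange.closure_range
    exact Groth.Agent.S0593.result _ _ q.toImage
  refine ⟨q.image, q.imageι ≫ U.ι, U, hW, inferInstance, ?_, hTU⟩
  have h1 : Set.range q.imageι = Set.range q := by
    rw [Scheme.IdealSheafData.range_subschemeι, Scheme.Hom.support_ker]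
    refine IsClosed.closure_eq ?_
    rw [hrq]
    exact (hA.union hB).preimage U.ι.continuous
  rw [Scheme.Hom.comp_base, TopCat.coe_comp, Set.range_comp]
  rw [h1, hrq, Set.image_preimage_eq_inter_range, hιU]

theorem P_sUnion (T : Set X) (hT : T.Finite) (S : Set (Set X)) (hS : S.Finite)
    (hcl : ∀ C ∈ S, IsClosed C) (hP : ∀ C ∈ S, P T C) : P T (⋃₀ S) := by
  have : IsClosed (⋃₀ S) ∧ P T (⋃₀ S) := by
    induction S, hS using Set.Finite.induction_on with
    | empty =>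
      refine ⟨by rw [Set.sUnion_empty]; exact isClosed_empty, ?_⟩
      rw [Set.sUnion_empty]
      refine ⟨⊥_ Scheme.{u}, initial.to X, ⊤, inferInstance, inferInstance, ?_, ?_⟩
      · rw [Set.empty_inter, Set.range_eq_empty_iff]
        infer_instance
      · rw [Set.inter_empty]; exact Set.empty_subset _
    | insert _ _ ih =>
      rename_i C S' _ _
      obtain ⟨h1, h2⟩ := ih (fun C' hC' => hcl C' (Set.mem_insert_of_mem _ hC'))
        (fun C' hC' => hP C' (Set.mem_insert_of_mem _ hC'))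
      rw [Set.sUnion_insert]
      exact ⟨(hcl C (Set.mem_insert _ _)).union h1,
        P_union T hT C _ (hcl C (Set.mem_insert _ _)) h1 (hP C (Set.mem_insert _ _)) h2⟩
  exact this.2

theorem exists_affineOpen_of_P_univ (T : Set X) (h : P T Set.univ) :
    ∃ U : X.Opens, IsAffineOpen U ∧ ∀ t ∈ T, t ∈ U := by
  obtain ⟨Y, i, U, hY, hi, hiU, hTU⟩ := h
  rw [Set.univ_inter] at hiU
  refine ⟨U, ?_, fun t ht => hTU ⟨ht, trivial⟩⟩
  have hιU : Set.range U.ι = (U : Set X) := Scheme.Opens.range_ι U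
  let a : Y ⟶ (U : Scheme.{u}) := IsOpenImmersion.lift U.ι i (by rw [hιU, hiU])
  have hac : a ≫ U.ι = i := IsOpenImmersion.lift_fac _ _ _
  have hsurj : Function.Surjective a := by
    intro x
    have hx : U.ι x ∈ Set.range i := by rw [hiU, ← hιU]; exact ⟨x, rfl⟩
    obtain ⟨y, hy⟩ := hx
    refine ⟨y, U.ι.isEmbedding.injective ?_⟩
    rw [← hy, ← hac]; rfl
  have hpa : IsPreimmersion a := by
    have : IsPreimmersion (a ≫ U.ι) := by rw [hac]; infer_instance
    exact IsPreimmersion.of_comp a U.ι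
  have hca : IsClosedImmersion a := IsClosedImmersion.of_isPreimmersion _ (by
    rw [hsurj.range_eq]; exact isClosed_univ)
  exact Groth.Agent.S0440.result a hsurj

end K422.AffineUnion
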