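import Groth.Agent.Variety.K422.SemilocalGlue
import Mathlib.AlgebraicGeometry.OpenImmersion
import Mathlib.Algebra.Category.Ring.Constructions
import Mathlib.RingTheory.DiscreteValuationRing.TFAE

/-! Glueing one-dimensional semi-local Noetherian subrings of a field: spectra. -/

set_option autoImplicit false

universe u

open CategoryTheory CategoryTheory.Limits AlgebraicGeometry

namespace K422.SemilocalGlue

namespace Datum

variable {K : Type u} [Field K] {ι : Type} {A : ι → Subring K} (D : Datum A)
  [Fintype ι] [∀ i, IsFractionRing (A i) K] (hdim : ∀ i, Ring.KrullDimLE 1 (A i))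

include D hdim

theorem isOpenImmersion (i : ι) :
    IsOpenImmersion (Spec.map (CommRingCat.ofHom (Subring.inclusion (iInf_le A i)))) := by
  let _ := alg A i
  have := D.isLocalization hdim i
  exact IsOpenImmersion.of_isLocalization (R := R A) (S := A i) (D.w i)

theorem mem_range_iff (i : ι) (P : PrimeSpectrum (R A)) :
    P ∈ Set.range (Spec.map (CommRingCat.ofHom (Subring.inclusion (iInf_le A i)))).base ↔
      D.w i ∉ P.asIdeal := by
  let _ := alg A i
  have := D.isLocalization hdim i
  have h1 := PrimeSpectrum.localization_away_comap_range (R := R A) (A i) (D.w i)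
  have h2 : Set.range (Spec.map (CommRingCat.ofHom (Subring.inclusion (iInf_le A i)))).base =
      Set.range (PrimeSpectrum.comap (algebraMap (R A) (A i))) := rfl
  rw [h2, h1]
  rfl

theorem iUnion_range [Nonempty ι] :
    (⋃ i, Set.range (Spec.map (CommRingCat.ofHom (Subring.inclusion (iInf_le A i)))).base) = Set.univ := by
  rw [Set.eq_univ_iff_forall]
  intro P
  obtain ⟨i, hi⟩ := D.exists_notMem hdim P.asIdeal P.isPrime
  exact Set.mem_iUnion.mpr ⟨i, (D.mem_range_iff hdim i P).mpr hi⟩

/-- For `i ≠ j`, `K` is the localization of `A i` at the element `v j`. -/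
theorem isLocalization_field {i j : ι} (hij : j ≠ i) :
    IsLocalization.Away (⟨D.v j, D.mem j i⟩ : A i) K := by
  refine IsLocalization.Away.mk _ ?_ ?_ ?_
  · exact (isUnit_iff_ne_zero.mpr (D.ne_zero j) : IsUnit (D.v j))
  · intro a
    have := hdim i
    obtain ⟨n, hn⟩ := exists_pow_mul_mem_jacobson (K := K) _ (D.mem_jac j i hij) a
    obtain ⟨d, -, hd⟩ := hn n le_rfl
    exact ⟨n, d, by rw [mul_comm]; exact hd.symm⟩
  · intro a b hab
    exact ⟨0, by rw [IsFractionRing.injective (A i) K hab]⟩

theorem isPushout {i j : ι} (hij : j ≠ i) :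
    IsPushout (CommRingCat.ofHom (Subring.inclusion (iInf_le A i)))
      (CommRingCat.ofHom (Subring.inclusion (iInf_le A j)))
      (CommRingCat.ofHom (A i).subtype) (CommRingCat.ofHom (A j).subtype) := by
  let _ := alg A j
  have h1 := D.isLocalization hdim j
  have h2 : IsLocalization ((Submonoid.powers (D.w j)).map (Subring.inclusion (iInf_le A i))) K := by
    rw [Submonoid.map_powers]
    exact D.isLocalization_field hdim hij
  exact CommRingCat.isPushout_of_isLocalization (R := R A) (S := A i) (Rₘ := A j) (Sₘ := K)
    (Subring.inclusion (iInf_le A i)) (A j).subtype rfl (Submonoid.powers (D.w j))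

end Datum

end K422.SemilocalGlue
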