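import Mathlib.RingTheory.KrullDimension.Basic
import Mathlib.RingTheory.Noetherian.Basic
import Mathlib.RingTheory.LocalRing.MaximalIdeal.Basic
import Mathlib.RingTheory.Finiteness.Ideal
import Mathlib.RingTheory.Ideal.MinimalPrime.Noetherian
import Mathlib.RingTheory.Ideal.MinimalPrime.Localization
import Mathlib.RingTheory.Localization.AtPrime.Basic
import Mathlib.RingTheory.Localization.Ideal
import Mathlib.Algebra.Ring.GeomSum

/-! One-dimensional Noetherian local rings and the product of the localizations at the minimal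
primes: denominators. -/

set_option autoImplicit false

namespace K422.DimOneLoc

open IsLocalRing

/-- An ideal of a one-dimensional Noetherian local ring that is in no minimal prime contains a power
of the maximal ideal. -/
theorem exists_pow_le (A : Type*) [CommRing A] [IsLocalRing A] [IsNoetherianRing A]
    (hdim : ringKrullDim A ≤ 1) (J : Ideal A) (hJ : ∀ p ∈ minimalPrimes A, ¬ J ≤ p) :
    ∃ k, maximalIdeal A ^ k ≤ J := by
  refine Ideal.exists_pow_le_of_le_radical_of_fg ?_ (IsNoetherian.noetherian _)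
  rw [Ideal.radical_eq_sInf]
  refine le_sInf fun q hq => ?_
  have h1 := (Ring.krullDimLE_one_iff (R := A)).mp (Ring.krullDimLE_iff.mpr (by exact_mod_cast hdim)) q hq.2
  rcases h1 with h | h
  · exact absurd hq.1 (hJ q h)
  · exact (eq_maximalIdeal h).ge

theorem exists_pow_eq (A : Type*) [CommRing A]
    [IsLocalRing A] [IsNoetherianRing A] (hdim : ringKrullDim A ≤ 1)
    (a₁ a₂ : A) (h₁ : a₁ ∈ IsLocalRing.maximalIdeal A) (h₂ : a₂ ∈ IsLocalRing.maximalIdeal A)
    (heq : ∀ (p : PrimeSpectrum A), p.asIdeal ∈ minimalPrimes A →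
      algebraMap A (Localization.AtPrime p.asIdeal) a₁ = algebraMap A (Localization.AtPrime p.asIdeal) a₂) :
    ∃ n : ℕ, 0 < n ∧ a₁ ^ n = a₂ ^ n := by
  obtain ⟨k, hk⟩ := exists_pow_le A hdim (Submodule.span A {a₁ - a₂}).annihilator (by
    intro p hp hle
    have hpp : p.IsPrime := hp.1.1
    have h := heq ⟨p, hpp⟩ hp
    obtain ⟨c, hc⟩ := (IsLocalization.eq_iff_exists p.primeCompl (Localization.AtPrime p)).mp h
    refine c.2 (hle ?_)
    rw [Submodule.mem_annihilator_span_singleton, smul_eq_mul, mul_sub, hc, sub_self])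
  refine ⟨k + 1, Nat.succ_pos k, ?_⟩
  rw [← sub_eq_zero, ← geom_sum₂_mul]
  have hmem : (∑ i ∈ Finset.range (k + 1), a₁ ^ i * a₂ ^ (k + 1 - 1 - i)) ∈ maximalIdeal A ^ k := by
    refine Submodule.sum_mem _ fun i hi => ?_
    have hi' : i ≤ k := Nat.lt_succ_iff.mp (Finset.mem_range.mp hi)
    have : maximalIdeal A ^ k = maximalIdeal A ^ i * maximalIdeal A ^ (k + 1 - 1 - i) := by
      rw [← pow_add]; congr 1; omega
    rw [this]
    exact Ideal.mul_mem_mul (Ideal.pow_mem_pow h₁ _) (Ideal.pow_mem_pow h₂ _)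
  have := hk hmem
  rwa [Submodule.mem_annihilator_span_singleton, smul_eq_mul] at this

/-- The index type of minimal primes. -/
abbrev Idx (A : Type*) [CommRing A] := {p : PrimeSpectrum A // p.asIdeal ∈ minimalPrimes A}

/-- The product of the localizations at the minimal primes. -/
abbrev L (A : Type*) [CommRing A] := ∀ p : Idx A, Localization.AtPrime p.1.asIdeal

/-- In the localization at a minimal prime `q`, elements of `q` are nilpotent. -/
theorem exists_pow_eq_zero {A : Type*} [CommRing A] (q : PrimeSpectrum A) (hq : q.asIdeal ∈ minimalPrimes A)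
    (y : A) (hy : y ∈ q.asIdeal) :
    ∃ n : ℕ, algebraMap A (Localization.AtPrime q.asIdeal) (y ^ n) = 0 := by
  have h1 : IsNilpotent (algebraMap A (Localization.AtPrime q.asIdeal) y) := by
    rw [nilpotent_iff_mem_prime]
    intro P hP
    have h2 := (IsLocalization.isPrime_iff_isPrime_disjoint q.asIdeal.primeCompl
      (Localization.AtPrime q.asIdeal) P).mp hP
    have h3 : P.under A ≤ q.asIdeal := by
      intro x hx
      by_contra hcon
      exact Set.disjoint_left.mp h2.2 hcon hx
    have h4 : q.asIdeal ≤ P.under A := hq.2 ⟨h2.1, bot_le⟩ h3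
    exact h4 hy
  obtain ⟨n, hn⟩ := h1
  exact ⟨n, by rw [map_pow, hn]⟩

/-- Denominators: for an element `l` of the product of the localizations at the minimal primes, the
ideal of elements of `A` multiplying `l` into the image of `A` lies in no minimal prime. -/
theorem exists_denominator {A : Type*} [CommRing A] [IsNoetherianRing A] (l : L A) (p : Idx A) :
    ∃ x : A, x ∉ p.1.asIdeal ∧ ∃ c : A, algebraMap A (L A) x * l = algebraMap A (L A) c := by
  classical
  have hfin : Finite (Idx A) := by
    have := minimalPrimes.finite_of_isNoetherianRing A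
    have : Finite (minimalPrimes A) := this.to_subtype
    exact Finite.of_injective (fun p : Idx A => (⟨p.1.asIdeal, p.2⟩ : minimalPrimes A))
      (fun p q h => Subtype.ext (PrimeSpectrum.ext (congrArg Subtype.val h)))
  have : Fintype (Idx A) := Fintype.ofFinite _
  have hex : ∀ q : Idx A, ∃ y : A, y ∉ p.1.asIdeal ∧
      (q ≠ p → algebraMap A (Localization.AtPrime q.1.asIdeal) y = 0) := by
    intro q
    by_cases hqp : q = p
    · exact ⟨1, fun h => p.1.isPrime.ne_top ((Ideal.eq_top_iff_one _).mpr h), fun h => absurd hqp h⟩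
    · have hne : ¬ q.1.asIdeal ≤ p.1.asIdeal := by
        intro hle
        have := p.2.2 ⟨q.1.isPrime, bot_le⟩ hle
        exact hqp (Subtype.ext (PrimeSpectrum.ext (le_antisymm hle this)))
      obtain ⟨y, hy, hyp⟩ := Set.not_subset.mp hne
      obtain ⟨n, hn⟩ := exists_pow_eq_zero q.1 q.2 y hy
      exact ⟨y ^ n, fun h => hyp (p.1.isPrime.mem_of_pow_mem _ h), fun _ => hn⟩
  choose y hyp hyq using hex
  obtain ⟨c, s, hcs⟩ := IsLocalization.exists_mk'_eq p.1.asIdeal.primeCompl (l p)
  have he : (∏ q, y q) ∉ p.1.asIdeal := by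
    intro h
    obtain ⟨q, -, hq⟩ := (Ideal.IsPrime.prod_mem_iff (hp := p.1.isPrime)).mp h
    exact hyp q hq
  refine ⟨(∏ q, y q) * s, fun h => ?_, (∏ q, y q) * c, ?_⟩
  · rcases p.1.isPrime.mem_or_mem h with h | h
    · exact he h
    · exact s.2 h
  · funext q
    rw [Pi.mul_apply, Pi.algebraMap_apply, Pi.algebraMap_apply]
    by_cases hqp : q = p
    · subst hqp
      rw [map_mul, map_mul, mul_assoc, ← hcs, mul_comm (algebraMap A _ (s : A)),
        IsLocalization.mk'_spec]
    · have h0 : algebraMap A (Localization.AtPrime q.1.asIdeal) (∏ q, y q) = 0 := by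
        rw [map_prod]
        exact Finset.prod_eq_zero (Finset.mem_univ q) (hyq q hqp)
      rw [map_mul, map_mul, h0, zero_mul, zero_mul, zero_mul]

theorem exists_pow_mul_mem {A : Type*} [CommRing A] [IsLocalRing A] [IsNoetherianRing A]
    (hdim : ringKrullDim A ≤ 1) (a : A) (ha : a ∈ maximalIdeal A) (l : L A) :
    ∃ N : ℕ, ∀ n, N ≤ n → algebraMap A (L A) (a ^ n) * l ∈ (algebraMap A (L A)).range := by
  let D : Ideal A := Submodule.comap (LinearMap.toSpanSingleton A (L A) l)
    (LinearMap.range (Algebra.linearMap A (L A)))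
  have hD : ∀ x : A, x ∈ D ↔ algebraMap A (L A) x * l ∈ (algebraMap A (L A)).range := by
    intro x
    rw [Submodule.mem_comap, LinearMap.toSpanSingleton_apply, Algebra.smul_def]
    rfl
  obtain ⟨k, hk⟩ := exists_pow_le A hdim D (by
    intro p hp hle
    obtain ⟨x, hx, c, hc⟩ := exists_denominator l ⟨⟨p, hp.1.1⟩, hp⟩
    exact hx (hle ((hD x).mpr ⟨c, hc.symm⟩)))
  exact ⟨k, fun n hn => (hD _).mp (hk (Ideal.pow_le_pow_right hn (Ideal.pow_mem_pow ha n)))⟩

theorem exists_pow_mem_range {A : Type*} [CommRing A] [IsLocalRing A] [IsNoetherianRing A]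
    (hdim : ringKrullDim A ≤ 1) (a : A) (ha : a ∈ maximalIdeal A) (i : L A)
    (hi : i ∈ (nilradical A).map (algebraMap A (L A))) :
    ∃ n : ℕ, 0 < n ∧ (i + algebraMap A (L A) a) ^ n ∈ (algebraMap A (L A)).range := by
  have hnil : IsNilpotent i := by
    have h1 : (nilradical A).map (algebraMap A (L A)) ≤ nilradical (L A) := by
      rw [Ideal.map_le_iff_le_comap]
      intro x hx
      have hx' : IsNilpotent x := hx
      exact (hx'.map (algebraMap A (L A)) : IsNilpotent _)
    exact h1 hi
  obtain ⟨N, hN⟩ := hnil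
  choose M hM using fun k : ℕ => exists_pow_mul_mem hdim a ha (i ^ k)
  set n := N + (Finset.range N).sup M + 1 with hn
  refine ⟨n, by omega, ?_⟩
  rw [add_pow]
  refine Subring.sum_mem _ fun k _ => ?_
  by_cases hkN : k < N
  · have h1 : M k ≤ (Finset.range N).sup M := Finset.le_sup (f := M) (Finset.mem_range.mpr hkN)
    have h2 := hM k (n - k) (by omega)
    have h3 : i ^ k * algebraMap A (L A) a ^ (n - k) * ((n.choose k : ℕ) : L A) =
        ((n.choose k : ℕ) : L A) * (algebraMap A (L A) (a ^ (n - k)) * i ^ k) := by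
      rw [map_pow]; ring
    rw [h3]
    exact Subring.mul_mem _ (natCast_mem _ _) h2
  · have h4 : i ^ k = 0 := pow_eq_zero_of_le (not_lt.mp hkN) hN
    rw [h4, zero_mul, zero_mul]
    exact Subring.zero_mem _

end K422.DimOneLoc
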