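import Groth.Agent.S2127
import Mathlib.AlgebraicGeometry.Properties
import Mathlib.AlgebraicGeometry.Morphisms.QuasiSeparated
import Mathlib.AlgebraicGeometry.QuasiAffine
import Mathlib.Topology.Sober

/-! Finite sets of points in affine opens: images of points of an affine scheme under a morphism
which is an isomorphism on local rings. -/

set_option autoImplicit false

universe u

open CategoryTheory CategoryTheory.Limits AlgebraicGeometry TopologicalSpace Opposite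

namespace K422.AffineNbhd

section algebra

/-- If `ρ` is in every prime `q ≤ p` containing `I`, then this holds in a neighbourhood of `p`. -/
theorem exists_mul_pow_mem {A : Type*} [CommRing A] (I : Ideal A) (ρ : A) (p : Ideal A) [p.IsPrime]
    (h : ∀ q : Ideal A, q.IsPrime → q ≤ p → I ≤ q → ρ ∈ q) : ∃ s ∉ p, ∃ N : ℕ, s * ρ ^ N ∈ I := by
  by_contra hcon
  push Not at hcon
  have hdisj : Disjoint (I : Set A) ((p.primeCompl ⊔ Submonoid.powers ρ : Submonoid A) : Set A) := by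
    rw [Set.disjoint_right]
    intro x hx hxI
    obtain ⟨y, hy, z, ⟨N, rfl⟩, rfl⟩ := Submonoid.mem_sup.mp hx
    exact hcon y hy N hxI
  obtain ⟨q, hq, hIq, hqd⟩ := Ideal.exists_le_prime_disjoint I _ hdisj
  have h1 : q ≤ p := by
    intro x hx
    by_contra hxp
    exact Set.disjoint_left.mp hqd hx ((le_sup_left : p.primeCompl ≤ _) hxp)
  have h2 := h q hq h1 hIq
  exact Set.disjoint_left.mp hqd h2 ((le_sup_right : Submonoid.powers ρ ≤ _) (Submonoid.mem_powers ρ))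

end algebra

section generic

variable {X : Type*} [TopologicalSpace X]

theorem exists_generic [QuasiSober X] (y : X) :
    ∃ η : X, closure {η} ∈ irreducibleComponents X ∧ η ⤳ y := by
  obtain ⟨η, hη⟩ := QuasiSober.sober (isIrreducible_irreducibleComponent (x := y))
    isClosed_irreducibleComponent
  refine ⟨η, ?_, ?_⟩
  · rw [hη.def]; exact irreducibleComponent_mem_irreducibleComponents y
  · rw [specializes_iff_mem_closure, hη.def]; exact mem_irreducibleComponent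

theorem generic_unique [T0Space X] {θ η : X} (hθ : closure {θ} ∈ irreducibleComponents X)
    (h : η ⤳ θ) : η = θ := by
  have h1 : closure {θ} ⊆ closure {η} := specializes_iff_closure_subset.mp h
  have h2 : closure {η} ⊆ closure {θ} := hθ.2 isIrreducible_singleton.closure h1
  exact (h.antisymm (specializes_iff_closure_subset.mpr h2)).eq

/-- The complement of the union of the irreducible components not meeting `E`. -/
def near (X : Type*) [TopologicalSpace X] (hX : (irreducibleComponents X).Finite) (E : Set X) : Opens X :=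
  ⟨(⋃₀ {Z | Z ∈ irreducibleComponents X ∧ Disjoint Z E})ᶜ, by
    rw [isOpen_compl_iff, Set.sUnion_eq_biUnion]
    have h : {Z | Z ∈ irreducibleComponents X ∧ Disjoint Z E} ⊆ irreducibleComponents X := fun Z hZ => hZ.1
    exact (hX.subset h).isClosed_biUnion
      (fun Z hZ => isClosed_of_mem_irreducibleComponents Z hZ.1)⟩

theorem subset_near (hX : (irreducibleComponents X).Finite) (E : Set X) : E ⊆ near X hX E := by
  intro x hx
  rintro ⟨Z, ⟨-, hZ⟩, hxZ⟩
  exact Set.disjoint_left.mp hZ hxZ hx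

theorem near_mono (hX : (irreducibleComponents X).Finite) {E E' : Set X} (h : E ⊆ E') :
    near X hX E ≤ near X hX E' := by
  intro x hx
  rintro ⟨Z, ⟨hZ1, hZ⟩, hxZ⟩
  exact hx ⟨Z, ⟨hZ1, hZ.mono_right h⟩, hxZ⟩

theorem exists_specializes_of_mem_near (hX : (irreducibleComponents X).Finite) {E : Set X} {θ : X}
    (hθ : closure {θ} ∈ irreducibleComponents X) (h : θ ∈ near X hX E) : ∃ x ∈ E, θ ⤳ x := by
  by_contra hcon
  push Not at hcon
  apply h
  refine ⟨closure {θ}, ⟨hθ, ?_⟩, subset_closure rfl⟩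
  rw [Set.disjoint_left]
  intro x hx hxE
  exact hcon x hxE (specializes_iff_mem_closure.mpr hx)

end generic

section avoid

variable {X : Scheme.{u}}

/-- Prime avoidance in an affine open. -/
theorem exists_basicOpen {V : X.Opens} (hV : IsAffineOpen V) (O : X.Opens) (E : Set X)
    (hE : E.Finite) (hEV : E ⊆ V) (hEO : E ⊆ O) :
    ∃ h : Γ(X, V), E ⊆ X.basicOpen h ∧ X.basicOpen h ≤ O := by
  have hcl : IsClosed ((hV.fromSpec ⁻¹ᵁ O : Set (Spec Γ(X, V)))ᶜ) := (hV.fromSpec ⁻¹ᵁ O).isOpen.isClosed_compl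
  obtain ⟨I, hI⟩ := (PrimeSpectrum.isClosed_iff_zeroLocus_ideal _).mp hcl
  have hx : ∀ x (hx : x ∈ E), ¬ I ≤ (hV.primeIdealOf ⟨x, hEV hx⟩).asIdeal := by
    intro x hx hle
    have h1 : hV.primeIdealOf ⟨x, hEV hx⟩ ∈ PrimeSpectrum.zeroLocus (I : Set Γ(X, V)) := hle
    rw [← hI] at h1
    apply h1
    show hV.fromSpec (hV.primeIdealOf ⟨x, hEV hx⟩) ∈ O
    rw [hV.fromSpec_primeIdealOf]
    exact hEO hx
  obtain ⟨f, hfI, hf⟩ : ∃ f ∈ I, ∀ x (hx : x ∈ E), f ∉ (hV.primeIdealOf ⟨x, hEV hx⟩).asIdeal := by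
    by_contra hcon
    push Not at hcon
    have h2 : (I : Set Γ(X, V)) ⊆ ⋃ J ∈ Set.range (fun x : E => (hV.primeIdealOf ⟨x.1, hEV x.2⟩).asIdeal),
        (id J : Ideal Γ(X, V)) := by
      intro g hg
      obtain ⟨x, hx, hxg⟩ := hcon g hg
      exact Set.mem_biUnion (Set.mem_range_self (⟨x, hx⟩ : E)) hxg
    have : Finite E := hE.to_subtype
    obtain ⟨J, ⟨x, rfl⟩, hJ⟩ := (Ideal.subset_union_prime_finite (Set.finite_range _) ⊥ ⊥
      (by rintro _ ⟨x, rfl⟩ _ _; exact PrimeSpectrum.isPrime _)).mp h2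
    exact hx x.1 x.2 hJ
  refine ⟨f, ?_, ?_⟩
  · intro x hxE
    have h1 : hV.primeIdealOf ⟨x, hEV hxE⟩ ∈ hV.fromSpec ⁻¹ᵁ X.basicOpen f := by
      rw [hV.fromSpec_preimage_basicOpen]
      exact hf x hxE
    have h2 : hV.fromSpec (hV.primeIdealOf ⟨x, hEV hxE⟩) ∈ X.basicOpen f := h1
    rwa [hV.fromSpec_primeIdealOf] at h2
  · intro x hx
    have hxV : x ∈ V := X.basicOpen_le f hx
    have h2 : hV.primeIdealOf ⟨x, hxV⟩ ∈ hV.fromSpec ⁻¹ᵁ X.basicOpen f := by
      show hV.fromSpec (hV.primeIdealOf ⟨x, hxV⟩) ∈ X.basicOpen f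
      rw [hV.fromSpec_primeIdealOf]; exact hx
    rw [hV.fromSpec_preimage_basicOpen] at h2
    by_contra hcon
    have h1 : hV.primeIdealOf ⟨x, hxV⟩ ∈ PrimeSpectrum.zeroLocus (I : Set Γ(X, V)) := by
      rw [← hI]
      intro h3
      apply hcon
      have h4 : hV.fromSpec (hV.primeIdealOf ⟨x, hxV⟩) ∈ O := h3
      rwa [hV.fromSpec_primeIdealOf] at h4
    exact h2 (h1 hfI)

/-- If all generizations of `x` where `ρ` does not vanish lie in `V`, this holds near `x`. -/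
theorem exists_affine_nbhd (W₀ : X.Opens) (ρ : Γ(X, W₀)) (V : X.Opens) (x : X) (hx : x ∈ W₀)
    (h : ∀ y, y ⤳ x → y ∈ X.basicOpen ρ → y ∈ V) :
    ∃ W : X.Opens, x ∈ W ∧ W ≤ W₀ ∧ W ⊓ X.basicOpen ρ ≤ V := by
  obtain ⟨_, ⟨W₁, hW₁, rfl⟩, hxW₁, hW₁0⟩ := X.isBasis_affineOpens.exists_subset_of_mem_open hx W₀.isOpen
  have hW₁' : IsAffineOpen W₁ := hW₁
  let ρ₁ : Γ(X, W₁) := X.presheaf.map (homOfLE hW₁0).op ρ
  have hρ₁ : X.basicOpen ρ₁ = W₁ ⊓ X.basicOpen ρ := Scheme.basicOpen_res _ _ _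
  have hcl : IsClosed ((hW₁'.fromSpec ⁻¹ᵁ V : Set (Spec Γ(X, W₁)))ᶜ) :=
    (hW₁'.fromSpec ⁻¹ᵁ V).isOpen.isClosed_compl
  obtain ⟨I, hI⟩ := (PrimeSpectrum.isClosed_iff_zeroLocus_ideal _).mp hcl
  let p := hW₁'.primeIdealOf ⟨x, hxW₁⟩
  have hfp : hW₁'.fromSpec p = x := hW₁'.fromSpec_primeIdealOf _
  obtain ⟨s, hs, N, hN⟩ := exists_mul_pow_mem I ρ₁ p.asIdeal (by
    intro q hq hqp hIq
    by_contra hρq
    let q' : PrimeSpectrum Γ(X, W₁) := ⟨q, hq⟩
    have h1 : q' ⤳ p := (PrimeSpectrum.le_iff_specializes q' p).mp hqp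
    have h2 : hW₁'.fromSpec q' ⤳ x := by
      rw [← hfp]; exact h1.map hW₁'.fromSpec.continuous
    have h3 : hW₁'.fromSpec q' ∈ X.basicOpen ρ := by
      have h4 : q' ∈ hW₁'.fromSpec ⁻¹ᵁ X.basicOpen ρ₁ := by
        rw [hW₁'.fromSpec_preimage_basicOpen]; exact hρq
      have h5 : hW₁'.fromSpec q' ∈ X.basicOpen ρ₁ := h4
      rw [hρ₁] at h5
      exact h5.2
    have h6 := h _ h2 h3
    have h7 : q' ∈ PrimeSpectrum.zeroLocus (I : Set Γ(X, W₁)) := hIq
    rw [← hI] at h7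
    exact h7 h6)
  refine ⟨X.basicOpen s, ?_, (X.basicOpen_le s).trans hW₁0, ?_⟩
  · have h1 : p ∈ hW₁'.fromSpec ⁻¹ᵁ X.basicOpen s := by
      rw [hW₁'.fromSpec_preimage_basicOpen]; exact hs
    have h2 : hW₁'.fromSpec p ∈ X.basicOpen s := h1
    rwa [hfp] at h2
  · rintro y ⟨hys, hyρ⟩
    have hyW : y ∈ W₁ := X.basicOpen_le s hys
    let q := hW₁'.primeIdealOf ⟨y, hyW⟩
    have hfq : hW₁'.fromSpec q = y := hW₁'.fromSpec_primeIdealOf _
    have h1 : s ∉ q.asIdeal := by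
      have : q ∈ hW₁'.fromSpec ⁻¹ᵁ X.basicOpen s := by
        show hW₁'.fromSpec q ∈ X.basicOpen s
        rw [hfq]; exact hys
      rw [hW₁'.fromSpec_preimage_basicOpen] at this
      exact this
    have h2 : ρ₁ ∉ q.asIdeal := by
      have : q ∈ hW₁'.fromSpec ⁻¹ᵁ X.basicOpen ρ₁ := by
        show hW₁'.fromSpec q ∈ X.basicOpen ρ₁
        rw [hfq, hρ₁]; exact ⟨hyW, hyρ⟩
      rw [hW₁'.fromSpec_preimage_basicOpen] at this
      exact this
    by_contra hcon
    have h3 : q ∈ PrimeSpectrum.zeroLocus (I : Set Γ(X, W₁)) := by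
      rw [← hI]
      intro h4
      apply hcon
      have h5 : hW₁'.fromSpec q ∈ V := h4
      rwa [hfq] at h5
    have h4 : s * ρ₁ ^ N ∈ q.asIdeal := h3 hN
    rcases q.isPrime.mem_or_mem h4 with h5 | h5
    · exact h1 h5
    · exact h2 (q.isPrime.mem_of_pow_mem N h5)

end avoid

section main

variable {T X : Scheme.{u}} (f : T ⟶ X)

theorem exists_section [IsReduced T] (hX : (irreducibleComponents (X : Type u)).Finite)
    (hgen : ∀ η : T, closure ({η} : Set T) ∈ irreducibleComponents (T : Type u) →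
      closure ({f η} : Set X) ∈ irreducibleComponents (X : Type u))
    (hinj : ∀ η η' : T, closure ({η} : Set T) ∈ irreducibleComponents (T : Type u) →
      closure ({η'} : Set T) ∈ irreducibleComponents (T : Type u) → f η = f η' → η = η')
    (t : T) (hsurj : Function.Surjective (f.stalkMap t))
    (hlift : ∀ y, y ⤳ f t → ∃ y', y' ⤳ t ∧ f y' = y) (r : Γ(T, ⊤)) :
    ∃ W : X.Opens, f t ∈ W ∧ W ≤ near X hX {f t} ∧ ∃ ρ : Γ(X, W),
      f.app W ρ = T.presheaf.map (homOfLE le_top).op r := by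
  obtain ⟨g, hg⟩ := hsurj (T.presheaf.germ ⊤ t trivial r)
  obtain ⟨W', hW', ρ', hρ'⟩ := X.presheaf.exists_germ_eq g
  have hle : W' ⊓ near X hX {f t} ≤ W' := inf_le_left
  have htW : f t ∈ W' ⊓ near X hX {f t} := ⟨hW', subset_near hX _ rfl⟩
  generalize hW : W' ⊓ near X hX {f t} = W at hle htW
  have hWn : W ≤ near X hX {f t} := by rw [← hW]; exact inf_le_right
  refine ⟨W, htW, hWn, X.presheaf.map (homOfLE hle).op ρ', ?_⟩
  rw [← sub_eq_zero]
  generalize hδ : f.app W (X.presheaf.map (homOfLE hle).op ρ') - T.presheaf.map (homOfLE le_top).op r = δ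
  have htW' : t ∈ f ⁻¹ᵁ W := htW
  have e1 : T.presheaf.germ (f ⁻¹ᵁ W) t htW' (T.presheaf.map (homOfLE le_top).op r) =
      T.presheaf.germ ⊤ t trivial r := TopCat.Presheaf.germ_res_apply _ _ _ _ _
  have e2 : X.presheaf.germ W (f t) htW (X.presheaf.map (homOfLE hle).op ρ') =
      X.presheaf.germ W' (f t) hW' ρ' := TopCat.Presheaf.germ_res_apply _ _ _ _ _
  have hδt : T.presheaf.germ (f ⁻¹ᵁ W) t htW' δ = 0 := by
    rw [← hδ, map_sub, sub_eq_zero, e1, ← hg, ← hρ', ← e2]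
    exact (Scheme.Hom.germ_stalkMap_apply f W t htW _).symm
  rw [← basicOpen_eq_bot_iff, eq_bot_iff]
  intro y hy
  obtain ⟨η, hη, hηy⟩ := exists_generic y
  have hηδ : η ∈ T.basicOpen δ := hηy.mem_open (T.basicOpen δ).isOpen hy
  have hηW : f η ∈ W := T.basicOpen_le δ hηδ
  have hηW' : η ∈ f ⁻¹ᵁ W := hηW
  obtain ⟨x, rfl, hx⟩ := exists_specializes_of_mem_near hX (hgen η hη) (hWn hηW)
  obtain ⟨y', hy't, hy'⟩ := hlift _ hx
  obtain ⟨η', hη', hη'y'⟩ := exists_generic y'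
  have h1 : f η' ⤳ f η := by rw [← hy']; exact hη'y'.map f.continuous
  have h2 : f η' = f η := generic_unique (hgen η hη) h1
  have h3 : η' = η := hinj η' η hη' hη h2
  have h4 : η ⤳ t := h3 ▸ hη'y'.trans hy't
  have h5 : T.presheaf.germ (f ⁻¹ᵁ W) η hηW' δ = 0 := by
    have h6 := TopCat.Presheaf.germ_stalkSpecializes T.presheaf (U := f ⁻¹ᵁ W) htW' h4
    have h7 := congrArg (fun φ => φ δ) h6
    have h8 : T.presheaf.stalkSpecializes h4 (T.presheaf.germ (f ⁻¹ᵁ W) t htW' δ) =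
      T.presheaf.germ (f ⁻¹ᵁ W) η hηW' δ := h7
    rw [← h8, hδt, map_zero]
  rw [Scheme.mem_basicOpen _ _ _ hηW', h5] at hηδ
  exact (not_isUnit_zero hηδ).elim

theorem injective_app [IsReduced X] (hX : (irreducibleComponents (X : Type u)).Finite)
    (S : Set T) (hlift : ∀ t ∈ S, ∀ y, y ⤳ f t → ∃ y', y' ⤳ t ∧ f y' = y)
    (W : X.Opens) (hW : W ≤ near X hX (f '' S)) : Function.Injective (f.app W) := by
  rw [injective_iff_map_eq_zero]
  intro ρ hρ
  rw [← basicOpen_eq_bot_iff, eq_bot_iff]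
  intro y hy
  obtain ⟨θ, hθ, hθy⟩ := exists_generic y
  have hθρ : θ ∈ X.basicOpen ρ := hθy.mem_open (X.basicOpen ρ).isOpen hy
  obtain ⟨x, ⟨t, ht, rfl⟩, hx⟩ := exists_specializes_of_mem_near hX hθ (hW (X.basicOpen_le ρ hθρ))
  obtain ⟨y', -, rfl⟩ := hlift t ht θ hx
  have h1 : y' ∈ f ⁻¹ᵁ X.basicOpen ρ := hθρ
  rw [Scheme.preimage_basicOpen, hρ] at h1
  have h2 : T.basicOpen (0 : Γ(T, f ⁻¹ᵁ W)) = ⊥ := Scheme.basicOpen_zero _ _
  rw [h2] at h1
  exact h1.elim

end main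

end K422.AffineNbhd
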