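import Groth.Agent.Variety.K422.ClosedUnion
import Groth.Agent.Variety.K422.AffineNbhd
import Groth.Agent.S2127

/-!
# Invertible modules and the complement of a closed discrete set of points of dimension ≤ 1
-/

set_option autoImplicit false
universe u
open CategoryTheory CategoryTheory.Limits AlgebraicGeometry TopologicalSpace Opposite
open Groth.Agent.Fdesc.LocGen

namespace K422.DimOneLine

section algebra

variable {R : Type*} [CommRing R] [IsLocalRing R] [IsNoetherianRing R]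

open IsLocalRing

omit [IsNoetherianRing R] in
theorem minimal_of_ne (h : ringKrullDim R ≤ 1) (Q : Ideal R) [hQ : Q.IsPrime]
    (hne : Q ≠ maximalIdeal R) : Q ∈ minimalPrimes R := by
  have h1 : Ring.KrullDimLE 1 R := Ring.krullDimLE_iff.mpr (by simpa using h)
  rcases Ring.krullDimLE_one_iff.mp h1 Q hQ with h2 | h2
  · exact h2
  · exact absurd (IsLocalRing.eq_maximalIdeal h2) hne

theorem exists_param (h : ringKrullDim R ≤ 1) :
    ∃ f ∈ maximalIdeal R, ∀ Q : Ideal R, Q.IsPrime → f ∈ Q → Q = maximalIdeal R := by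
  classical
  have hfin : (minimalPrimes R).Finite := minimalPrimes.finite_of_isNoetherianRing R
  have hfin' : {Q ∈ minimalPrimes R | Q ≠ maximalIdeal R}.Finite := hfin.subset (fun Q hQ => hQ.1)
  have h1 : ¬ ((maximalIdeal R : Set R) ⊆ ⋃ Q ∈ (hfin'.toFinset : Set (Ideal R)), (Q : Set R)) := by
    intro hsub
    rw [Ideal.subset_union_prime (f := fun Q : Ideal R => Q) ⊥ ⊥ (fun Q hQ _ _ => by
      rw [Set.Finite.mem_toFinset] at hQ
      exact hQ.1.1.1)] at hsub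
    obtain ⟨Q, hQ, hle⟩ := hsub
    rw [Set.Finite.mem_toFinset] at hQ
    have hQp : Q.IsPrime := hQ.1.1.1
    exact hQ.2 (le_antisymm (le_maximalIdeal hQp.ne_top) hle)
  obtain ⟨f, hf, hfQ⟩ := Set.not_subset.mp h1
  refine ⟨f, hf, fun Q hQ hfQ' => ?_⟩
  by_contra hne
  exact hfQ (Set.mem_iUnion₂.mpr ⟨Q, by
    rw [Finset.mem_coe, Set.Finite.mem_toFinset]
    exact ⟨minimal_of_ne h Q hne, hne⟩, hfQ'⟩)

theorem finite_primes (h : ringKrullDim R ≤ 1) : {Q : PrimeSpectrum R | Q ≠ closedPoint R}.Finite := by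
  have hfin : (minimalPrimes R).Finite := minimalPrimes.finite_of_isNoetherianRing R
  refine Set.Finite.of_finite_image (f := PrimeSpectrum.asIdeal) (hfin.subset ?_)
    (fun a _ b _ hab => PrimeSpectrum.ext hab)
  rintro _ ⟨Q, hQ, rfl⟩
  exact minimal_of_ne h Q.asIdeal (fun h2 => hQ (PrimeSpectrum.ext h2))

end algebra

section nbhd

variable {X : Scheme.{u}}

/-- The set of proper generizations of `x` is finite. -/
theorem finite_generizations (x : X) [IsNoetherianRing (X.presheaf.stalk x)]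
    (h : ringKrullDim (X.presheaf.stalk x) ≤ 1) : {y : X | y ⤳ x ∧ y ≠ x}.Finite := by
  refine ((finite_primes h).image (X.fromSpecStalk x)).subset ?_
  rintro y ⟨hyx, hne⟩
  have h1 : y ∈ Set.range (X.fromSpecStalk x) := by
    rw [Scheme.range_fromSpecStalk]; exact hyx
  obtain ⟨Q, rfl⟩ := h1
  refine ⟨Q, fun hQ => hne ?_, rfl⟩
  rw [hQ]
  exact Scheme.fromSpecStalk_closedPoint

theorem mem_basicOpen_iff_of_fromSpecStalk (x : X) (V : X.Opens) (hx : x ∈ V) (f : Γ(X, V))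
    (Q : PrimeSpectrum (X.presheaf.stalk x)) :
    X.fromSpecStalk x Q ∈ X.basicOpen f ↔ X.presheaf.germ V x hx f ∉ Q.asIdeal := by
  have h1 : X.fromSpecStalk x Q ∈ X.basicOpen f ↔ Q ∈ (X.fromSpecStalk x) ⁻¹ᵁ X.basicOpen f := Iff.rfl
  rw [h1, Scheme.preimage_basicOpen, Scheme.fromSpecStalk_app hx]
  simp only [CommRingCat.comp_apply]
  rw [Scheme.basicOpen_res, basicOpen_eq_of_affine]
  have h2 : X.fromSpecStalk x Q ⤳ x := by
    have : X.fromSpecStalk x Q ∈ Set.range (X.fromSpecStalk x) := ⟨Q, rfl⟩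
    rw [Scheme.range_fromSpecStalk] at this
    exact this
  exact ⟨fun h => h.2, fun h => ⟨h2.mem_open V.isOpen hx, h⟩⟩

/-- Near a point `x ∉ U` which is isolated in the complement of the retrocompact open `U` and where `X` is
locally Noetherian of dimension ≤ 1, the open `U` is defined by one equation. -/
theorem exists_nbhd (U : X.Opens) [QuasiCompact U.ι] (x : X) (hxU : x ∉ U) (V₀ : X.Opens) (hxV₀ : x ∈ V₀)
    (hV₀ : ∀ y ∈ V₀, y ∉ U → y = x) [IsNoetherianRing (X.presheaf.stalk x)]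
    (h : ringKrullDim (X.presheaf.stalk x) ≤ 1) :
    ∃ V : X.Opens, IsAffineOpen V ∧ x ∈ V ∧ V ≤ V₀ ∧ ∃ f : Γ(X, V), X.basicOpen f = V ⊓ U := by
  obtain ⟨f₀, hf₀, hf₀'⟩ := exists_param h
  obtain ⟨V₁, hxV₁, f₁, hf₁⟩ := X.presheaf.exists_germ_eq f₀
  obtain ⟨_, ⟨V₂, hV₂, rfl⟩, hxV₂, hV₂'⟩ := X.isBasis_affineOpens.exists_subset_of_mem_open
    (show x ∈ V₀ ⊓ V₁ from ⟨hxV₀, hxV₁⟩) (V₀ ⊓ V₁).isOpen
  have hV₂a : IsAffineOpen V₂ := hV₂
  have hV₂₀ : V₂ ≤ V₀ := fun y hy => (hV₂' hy).1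
  have hV₂₁ : V₂ ≤ V₁ := fun y hy => (hV₂' hy).2
  let f₂ : Γ(X, V₂) := X.presheaf.map (homOfLE hV₂₁).op f₁
  have hf₂ : X.presheaf.germ V₂ x hxV₂ f₂ = f₀ := by
    rw [← hf₁]
    exact X.presheaf.germ_res_apply (homOfLE hV₂₁) x hxV₂ f₁
  have hxf₂ : x ∉ X.basicOpen f₂ := by
    rw [Scheme.mem_basicOpen _ _ _ hxV₂, hf₂]
    exact hf₀
  have hf₂U : X.basicOpen f₂ ≤ U := by
    intro y hy
    by_contra hyU
    rw [hV₀ y (hV₂₀ (X.basicOpen_le f₂ hy)) hyU] at hy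
    exact hxf₂ hy
  have hgen : ∀ y, y ⤳ x → y ≠ x → y ∈ X.basicOpen f₂ := by
    intro y hyx hne
    have h1 : y ∈ Set.range (X.fromSpecStalk x) := by
      rw [Scheme.range_fromSpecStalk]; exact hyx
    obtain ⟨Q, rfl⟩ := h1
    refine (mem_basicOpen_iff_of_fromSpecStalk x V₂ hxV₂ f₂ Q).mpr ?_
    rw [hf₂]
    intro hQ
    apply hne
    have h2 : Q = IsLocalRing.closedPoint (X.presheaf.stalk x) :=
      PrimeSpectrum.ext (hf₀' Q.asIdeal Q.2 hQ)
    rw [h2]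
    exact Scheme.fromSpecStalk_closedPoint
  -- the quasi-compact open `V₂ ⊓ U`
  have hqc : IsCompact ((V₂ ⊓ U : X.Opens) : Set X) := by
    have h1 := (U.ι.isCompact_preimage hV₂a.isCompact).image U.ι.continuous
    convert h1 using 1
    ext y
    constructor
    · rintro ⟨hy1, hy2⟩
      exact ⟨⟨y, hy2⟩, hy1, rfl⟩
    · rintro ⟨y, hy, rfl⟩
      exact ⟨hy, y.2⟩
  obtain ⟨W, hxW, hWV₂, hW⟩ : ∃ W : X.Opens, x ∈ W ∧ W ≤ V₂ ∧
      (W : Set X) ∩ ((V₂ ⊓ U : X.Opens) : Set X) ⊆ X.basicOpen f₂ := by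
    refine IsCompact.induction_on (p := fun S => ∃ W : X.Opens, x ∈ W ∧ W ≤ V₂ ∧
      (W : Set X) ∩ S ⊆ X.basicOpen f₂) hqc ?_ ?_ ?_ ?_
    · exact ⟨V₂, hxV₂, le_rfl, fun y hy => hy.2.elim⟩
    · rintro S T hST ⟨W, h1, h2, h3⟩
      exact ⟨W, h1, h2, (Set.inter_subset_inter_right _ hST).trans h3⟩
    · rintro S T ⟨W, h1, h2, h3⟩ ⟨W', h1', h2', h3'⟩
      refine ⟨W ⊓ W', ⟨h1, h1'⟩, inf_le_left.trans h2, ?_⟩
      rintro y ⟨⟨hy1, hy2⟩, hy | hy⟩
      · exact h3 ⟨hy1, hy⟩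
      · exact h3' ⟨hy2, hy⟩
    · rintro y ⟨hyV₂, hyU⟩
      have hy : y ∈ (V₂ ⊓ U : X.Opens) := ⟨hyV₂, hyU⟩
      obtain ⟨a, ha, hya⟩ := hV₂a.exists_basicOpen_le ⟨y, hy⟩ hyV₂
      obtain ⟨W, h1, h2, h3⟩ := AffineNbhd.exists_affine_nbhd V₂ a (X.basicOpen f₂) x hxV₂
        (fun z hzx hza => hgen z hzx (fun hz => hxU (by
          rw [← hz]; exact (ha hza).2)))
      exact ⟨X.basicOpen a, mem_nhdsWithin_of_mem_nhds ((X.basicOpen a).isOpen.mem_nhds hya),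
        W, h1, h2, h3⟩
  obtain ⟨_, ⟨V₃, hV₃, rfl⟩, hxV₃, hV₃'⟩ := X.isBasis_affineOpens.exists_subset_of_mem_open hxW W.isOpen
  have hV₃W : V₃ ≤ W := hV₃'
  refine ⟨V₃, hV₃, hxV₃, (hV₃W.trans hWV₂).trans hV₂₀, X.presheaf.map (homOfLE (hV₃W.trans hWV₂)).op f₂, ?_⟩
  rw [Scheme.basicOpen_res]
  apply le_antisymm
  · exact inf_le_inf_left _ hf₂U
  · rintro y ⟨hy1, hy2⟩
    exact ⟨hy1, hW ⟨hV₃W hy1, hWV₂ (hV₃W hy1), hy2⟩⟩

end nbhd

section line

variable {X : Scheme.{u}}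

lemma isUnit_ores {V T : X.Opens} (a : Γ(X, V)) (hTV : T ≤ V) (hT : T ≤ X.basicOpen a) :
    IsUnit (ores hTV a) := by
  have h1 : IsUnit (ores (X.basicOpen_le a) a) :=
    RingedSpace.isUnit_res_basicOpen X.toRingedSpace a
  have h2 := h1.map (ores hT)
  rwa [ores_ores] at h2

lemma bijective_ι_app (U T : X.Opens) (hT : T ≤ U) : Function.Bijective (U.ι.app T) := by
  have : IsIso (U.ι.app T) := U.ι.isIso_app T (by rw [Scheme.Opens.opensRange_ι]; exact hT)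
  exact ConcreteCategory.bijective_of_isIso (U.ι.app T)

/-- Gluing modules on `U` with generators near the points outside `U`. -/
theorem exists_extend (U : X.Opens) (N : (↑U : Scheme.{u}).Modules) (W : X → X.Opens)
    (hxW : ∀ x, x ∈ W x) (hW : ∀ x, ∀ z ∈ W x, z ∉ U → z = x) (n : ∀ x, Γ(N, U.ι ⁻¹ᵁ W x))
    (hn : ∀ x, IsGen (n x)) :
    ∃ (L : X.Modules) (e : ∀ x, Γ(L, W x)), PicF.IsInvertible L ∧ (∀ x, IsGen (e x)) ∧
      (∀ x y, ∃ g : Γ(X, W x ⊓ W y), res L inf_le_left (e x) = g • res L inf_le_right (e y) ∧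
        res N (U.ι.preimage_mono inf_le_left) (n x) =
          (U.ι.app (W x ⊓ W y) g : Γ(↑U, U.ι ⁻¹ᵁ (W x ⊓ W y))) •
            res N (U.ι.preimage_mono inf_le_right) (n y)) ∧
      Nonempty ((Scheme.Modules.pullback U.ι).obj L ≅ N) := by
  have hU : ∀ x y, x ≠ y → W x ⊓ W y ≤ U := by
    intro x y hxy z hz
    by_contra hzU
    exact hxy ((hW x z hz.1 hzU).symm.trans (hW y z hz.2 hzU))
  obtain ⟨L, e, hL, he, hg, hiso⟩ := GlueLine.exists_glue (κ := PUnit.{1}) (Z := fun _ => ↑U)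
    (fun _ => U.ι) (fun _ => N) W (eq_top_iff.mpr fun x _ => Opens.mem_iSup.mpr ⟨x, hxW x⟩)
    (fun x _ => n x) (fun x _ => hn x)
    (fun x y hxy T hT a b hab => (bijective_ι_app U T (hT.trans (hU x y hxy))).1 (hab PUnit.unit))
    (fun x y hxy c => by
      obtain ⟨a, ha⟩ := (bijective_ι_app U (W x ⊓ W y) (hU x y hxy)).2 (c PUnit.unit)
      exact ⟨a, fun _ => ha⟩)
  refine ⟨L, e, hL, he, fun x y => ?_, hiso PUnit.unit⟩
  obtain ⟨g, hg1, hg2⟩ := hg x y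
  exact ⟨g, hg1, hg2 PUnit.unit⟩

theorem exists_section (U : X.Opens) (W : X → X.Opens)
    (hxW : ∀ x, x ∈ W x) (hW : ∀ x, ∀ z ∈ W x, z ∉ U → z = x) (s : ∀ x, Γ(X, W x))
    (hs : ∀ x, X.basicOpen (s x) = W x ⊓ U) :
    ∃ (L : X.Modules) (t : Coh.structureModule X ⟶ L), PicF.IsInvertible L ∧
      CohB1.genLocus L t = U := by
  have hU : ∀ x y, x ≠ y → W x ⊓ W y ≤ U := by
    intro x y hxy z hz
    by_contra hzU
    exact hxy ((hW x z hz.1 hzU).symm.trans (hW y z hz.2 hzU))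
  have hu : ∀ x, IsUnit (U.ι.app (W x) (s x) : Γ(↑U, U.ι ⁻¹ᵁ W x)) := by
    intro x
    have h1 : U.ι ⁻¹ᵁ W x ≤ (↑U : Scheme.{u}).basicOpen (U.ι.app (W x) (s x)) := by
      rw [← Scheme.preimage_basicOpen, hs x]
      intro y hy
      exact ⟨hy, y.2⟩
    have h2 := isUnit_ores _ le_rfl h1
    rwa [ores_refl] at h2
  choose v hv using fun x => (hu x).exists_left_inv
  have hv' : ∀ x, IsUnit (v x) := fun x => IsUnit.of_mul_eq_one _ (hv x)
  obtain ⟨L, e, hL, he, hg, -⟩ := exists_extend U (Coh.structureModule ↑U) W hxW hW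
    (fun x => v x • one (U.ι ⁻¹ᵁ W x)) (fun x => (isGen_one _).unit_smul (hv' x))
  have hcomp : ∀ x y, res L (inf_le_left : W x ⊓ W y ≤ W x) (s x • e x) =
      res L inf_le_right (s y • e y) := by
    intro x y
    by_cases hxy : x = y
    · subst hxy; rfl
    · obtain ⟨g, hg1, hg2⟩ := hg x y
      rw [res_smul, res_smul, hg1, smul_smul]
      congr 1
      apply (bijective_ι_app U _ (hU x y hxy)).1
      rw [res_smul, res_smul, res_one, res_one, smul_smul] at hg2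
      have hg3 := (isGen_one _).ext hg2
      have hx := congrArg (ores (U.ι.preimage_mono (inf_le_left : W x ⊓ W y ≤ W x))) (hv x)
      have hy := congrArg (ores (U.ι.preimage_mono (inf_le_right : W x ⊓ W y ≤ W y))) (hv y)
      rw [map_mul, map_one] at hx hy
      rw [map_mul, GlueLine.app_ores, GlueLine.app_ores]
      linear_combination (-(ores (U.ι.preimage_mono (inf_le_left : W x ⊓ W y ≤ W x))
          (U.ι.app (W x) (s x)) * U.ι.app (W x ⊓ W y) g)) * hy -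
        ores (U.ι.preimage_mono (inf_le_left : W x ⊓ W y ≤ W x)) (U.ι.app (W x) (s x)) *
          ores (U.ι.preimage_mono (inf_le_right : W x ⊓ W y ≤ W y)) (U.ι.app (W y) (s y)) * hg3 +
        ores (U.ι.preimage_mono (inf_le_right : W x ⊓ W y ≤ W y)) (U.ι.app (W y) (s y)) * hx
  obtain ⟨t, ht⟩ := res_glue L (V := ⊤) W (fun x => le_top)
    (fun x _ => Opens.mem_iSup.mpr ⟨x, hxW x⟩) (fun x => s x • e x) hcomp
  refine ⟨L, homOf t, hL, ?_⟩
  have h1 : ∀ x, CohB1.genLocus L (homOf t) ⊓ W x = W x ⊓ U := by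
    intro x
    rw [genLocus_inf_eq (homOf t) (he x) (a := s x) (by rw [sec_homOf, ht x]), hs x]
  ext x
  constructor
  · intro hx
    have : x ∈ CohB1.genLocus L (homOf t) ⊓ W x := ⟨hx, hxW x⟩
    rw [h1 x] at this
    exact this.2
  · intro hx
    have : x ∈ W x ⊓ U := ⟨hxW x, hx⟩
    rw [← h1 x] at this
    exact this.1

/-- If `V ⊓ U = D(f)` with `V` affine and the point `x ∈ V ∖ U` has only finitely many proper generizations, then an
invertible module on `U` is trivial on the intersection of `U` with a neighbourhood of `x`. -/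
theorem exists_gen_near (U : X.Opens) (x : X) (hxU : x ∉ U) (hfin : {y : X | y ⤳ x ∧ y ≠ x}.Finite)
    (V : X.Opens) (hV : IsAffineOpen V) (hxV : x ∈ V) (f : Γ(X, V)) (hf : X.basicOpen f = V ⊓ U)
    (N : (↑U : Scheme.{u}).Modules) (hN : PicF.IsInvertible N) :
    ∃ W : X.Opens, x ∈ W ∧ W ≤ V ∧ ∃ n : Γ(N, U.ι ⁻¹ᵁ W), IsGen n := by
  have hpre : U.ι ⁻¹ᵁ V = U.ι ⁻¹ᵁ X.basicOpen f := by
    ext y
    constructor
    · intro hy
      show y.1 ∈ X.basicOpen f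
      rw [hf]
      exact ⟨hy, y.2⟩
    · intro hy
      exact X.basicOpen_le f hy
  have hD : IsAffineOpen (U.ι ⁻¹ᵁ V) := by
    rw [hpre]
    refine (hV.basicOpen f).preimage_of_isOpenImmersion U.ι ?_
    rw [Scheme.Opens.opensRange_ι, hf]
    exact inf_le_right
  let E : Set (↑U : Scheme.{u}) := {y | y ∈ U.ι ⁻¹ᵁ V ∧ U.ι y ⤳ x}
  have hE : E.Finite := by
    refine Set.Finite.of_finite_image (f := U.ι) (hfin.subset ?_) (U.ι.isOpenEmbedding.injective.injOn)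
    rintro _ ⟨y, hy, rfl⟩
    refine ⟨hy.2, fun h => hxU ?_⟩
    rw [← h]
    exact y.2
  obtain ⟨m, hm⟩ := Groth.Agent.Smoothlim.LineSec.exists_genAt_finite hN hD E hE (fun y hy => hy.1)
  let ιG := {T : (↑U : Scheme.{u}).Opens // ∃ h : T ≤ U.ι ⁻¹ᵁ V, IsGen (res N h m)}
  let G : (↑U : Scheme.{u}).Opens := ⨆ T : ιG, T.1
  have hG : G ≤ U.ι ⁻¹ᵁ V := iSup_le fun T => T.2.choose
  have hGgen : IsGen (res N hG m) := by
    refine IsGen.of_cover (ι := ιG) (fun T => T.1) (fun T => le_iSup (fun T : ιG => T.1) T) le_rfl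
      (fun T => ?_)
    rw [res_res]
    exact T.2.choose_spec
  obtain ⟨W, hxW, hWV, hW⟩ := AffineNbhd.exists_affine_nbhd V f (U.ι ''ᵁ G) x hxV (fun y hyx hyf => by
    rw [hf] at hyf
    have h1 : (⟨y, hyf.2⟩ : U) ∈ E := ⟨hyf.1, hyx⟩
    obtain ⟨T, hT, hyT, hTg⟩ := hm _ h1
    have h2 : T ≤ G := le_iSup (fun T : ιG => T.1) ⟨T, hT, hTg⟩
    exact ⟨⟨y, hyf.2⟩, h2 hyT, rfl⟩)
  have hle : U.ι ⁻¹ᵁ W ≤ G := by
    intro z hz
    have h1 : U.ι z ∈ X.basicOpen f := by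
      rw [hf]; exact ⟨hWV hz, z.2⟩
    obtain ⟨z', hz', h⟩ := hW ⟨hz, h1⟩
    rwa [← U.ι.isOpenEmbedding.injective h]
  exact ⟨W, hxW, hWV, res N hle (res N hG m), hGgen.res hle⟩

/-- A generator of an invertible module on `U` near any point of `U`. -/
theorem exists_gen_of_mem (U : X.Opens) (x : X) (hxU : x ∈ U)
    (N : (↑U : Scheme.{u}).Modules) (hN : PicF.IsInvertible N) :
    ∃ W : X.Opens, x ∈ W ∧ W ≤ U ∧ ∃ n : Γ(N, U.ι ⁻¹ᵁ W), IsGen n := by
  obtain ⟨T, e, hxT, he⟩ := (isInvertible_iff N).mp hN ⟨x, hxU⟩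
  have h1 : U.ι ⁻¹ᵁ (U.ι ''ᵁ T) ≤ T := by rw [U.ι.preimage_image_eq]
  refine ⟨U.ι ''ᵁ T, ⟨⟨x, hxU⟩, hxT, rfl⟩, U.ι_image_le T, res N h1 e, he.res h1⟩

end line

/-- The two assertions of the main theorem. -/
theorem main (X : Scheme.{u}) (U : X.Opens)
    [QuasiCompact U.ι] (hdisc : DiscreteTopology ↥((U : Set X)ᶜ))
    (hloc : ∀ x : X, x ∉ U → IsNoetherianRing (X.presheaf.stalk x) ∧ ringKrullDim (X.presheaf.stalk x) ≤ 1) :
    (∃ (L : X.Modules) (s : Coh.structureModule X ⟶ L), PicF.IsInvertible L ∧ CohB1.genLocus L s = U) ∧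
      ∀ N : (↑U : Scheme.{u}).Modules, PicF.IsInvertible N →
        ∃ L : X.Modules, PicF.IsInvertible L ∧ Nonempty (L.restrict U.ι ≅ N) := by
  have h1 : ∀ x : X, x ∉ U → ∃ V : X.Opens, IsAffineOpen V ∧ x ∈ V ∧ (∀ z ∈ V, z ∉ U → z = x) ∧
      ∃ f : Γ(X, V), X.basicOpen f = V ⊓ U := by
    intro x hxU
    obtain ⟨V₀, hxV₀, hV₀⟩ := ClosedUnion.exists_inter_subset ((U : Set X)ᶜ) U.isOpen.isClosed_compl hdisc x
    have := (hloc x hxU).1
    obtain ⟨V, hV, hxV, hVV₀, f, hf⟩ := exists_nbhd U x hxU V₀ hxV₀ (fun y hy hyU => hV₀ ⟨hy, hyU⟩)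
      (hloc x hxU).2
    exact ⟨V, hV, hxV, fun z hz hzU => hV₀ ⟨hVV₀ hz, hzU⟩, f, hf⟩
  constructor
  · have h2 : ∀ x : X, ∃ W : X.Opens, x ∈ W ∧ (∀ z ∈ W, z ∉ U → z = x) ∧
        ∃ s : Γ(X, W), X.basicOpen s = W ⊓ U := by
      intro x
      by_cases hxU : x ∈ U
      · refine ⟨U, hxU, fun z hz hz' => absurd hz hz', 1, ?_⟩
        rw [X.basicOpen_of_isUnit isUnit_one, inf_idem]
      · obtain ⟨V, -, hxV, hz, f, hf⟩ := h1 x hxU
        exact ⟨V, hxV, hz, f, hf⟩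
    choose W hxW hW s hs using h2
    exact exists_section U W hxW hW s hs
  · intro N hN
    have h2 : ∀ x : X, ∃ W : X.Opens, x ∈ W ∧ (∀ z ∈ W, z ∉ U → z = x) ∧
        ∃ n : Γ(N, U.ι ⁻¹ᵁ W), IsGen n := by
      intro x
      by_cases hxU : x ∈ U
      · obtain ⟨W, hxW, hWU, n, hn⟩ := exists_gen_of_mem U x hxU N hN
        exact ⟨W, hxW, fun z hz hz' => absurd (hWU hz) hz', n, hn⟩
      · obtain ⟨V, hV, hxV, hz, f, hf⟩ := h1 x hxU
        have := (hloc x hxU).1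
        obtain ⟨W, hxW, hWV, n, hn⟩ := exists_gen_near U x hxU
          (finite_generizations x (hloc x hxU).2) V hV hxV f hf N hN
        exact ⟨W, hxW, fun z hz' => hz z (hWV hz'), n, hn⟩
    choose W hxW hW n hn using h2
    obtain ⟨L, e, hL, -, -, ⟨φ⟩⟩ := exists_extend U N W hxW hW n hn
    exact ⟨L, hL, ⟨(Scheme.Modules.restrictFunctorIsoPullback U.ι).app L ≪≫ φ⟩⟩

end K422.DimOneLine
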