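import Groth.Agent.Variety.K422.AffineNbhd

/-! Finite sets of points in affine opens: images of points of an affine scheme under a morphism
which is an isomorphism on local rings; the reduced case. -/

set_option autoImplicit false

universe u

open CategoryTheory CategoryTheory.Limits AlgebraicGeometry TopologicalSpace Opposite

namespace K422.AffineNbhd

/-- Glueing of sections along a morphism injective on sections. -/
theorem exists_glue {T X : Scheme.{u}} (f : T ⟶ X) (r : Γ(T, ⊤)) {ι : Type u} (W : ι → X.Opens)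
    (hinj : ∀ i j, Function.Injective (f.app (W i ⊓ W j)))
    (ρ : ∀ i, Γ(X, W i)) (hρ : ∀ i, f.app (W i) (ρ i) = T.presheaf.map (homOfLE le_top).op r) :
    ∃ σ : Γ(X, iSup W), ∀ i, X.presheaf.map (homOfLE (le_iSup W i)).op σ = ρ i := by
  have hcomp : TopCat.Presheaf.IsCompatible X.presheaf W ρ := by
    intro i j
    apply hinj i j
    have h : ∀ (k : ι) (h : W i ⊓ W j ≤ W k), f.app (W i ⊓ W j) (X.presheaf.map (homOfLE h).op (ρ k)) =
        T.presheaf.map (homOfLE le_top).op r := by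
      intro k h
      have h1 : f.app (W i ⊓ W j) (X.presheaf.map (homOfLE h).op (ρ k)) =
          T.presheaf.map (homOfLE (f.preimage_mono h)).op (f.app (W k) (ρ k)) := by
        have := congrArg (fun φ => φ (ρ k)) (f.naturality (homOfLE h).op)
        exact this
      rw [h1, hρ k]
      have h2 : T.presheaf.map (homOfLE (le_top : f ⁻¹ᵁ W k ≤ ⊤)).op ≫
          T.presheaf.map (homOfLE (f.preimage_mono h)).op = T.presheaf.map (homOfLE le_top).op := by
        rw [← Functor.map_comp]; rfl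
      exact congrArg (fun φ => φ r) h2
    exact (h i inf_le_left).trans (h j inf_le_right).symm
  obtain ⟨σ, hσ, -⟩ := X.sheaf.existsUnique_gluing W ρ hcomp
  exact ⟨σ, hσ⟩

variable {T X : Scheme.{u}} (f : T ⟶ X)

/-- Key statement on sections. -/
theorem exists_sections [IsReduced T] [IsReduced X] (hX : (irreducibleComponents (X : Type u)).Finite)
    (hgen : ∀ η : T, closure ({η} : Set T) ∈ irreducibleComponents (T : Type u) →
      closure ({f η} : Set X) ∈ irreducibleComponents (X : Type u))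
    (hinj : ∀ η η' : T, closure ({η} : Set T) ∈ irreducibleComponents (T : Type u) →
      closure ({η'} : Set T) ∈ irreducibleComponents (T : Type u) → f η = f η' → η = η')
    (S : Finset T) (hsurj : ∀ t ∈ S, Function.Surjective (f.stalkMap t))
    (hlift : ∀ t ∈ S, ∀ y, y ⤳ f t → ∃ y', y' ⤳ t ∧ f y' = y) (r : Γ(T, ⊤)) :
    ∃ (W : X.Opens) (ρ : Γ(X, W)), ∀ t ∈ S, f t ∈ W ∧
      ∀ y, y ⤳ t → (f y ∈ X.basicOpen ρ ↔ y ∈ T.basicOpen r) := by
  choose W hW1 hW2 ρ hρ using fun t : S => exists_section f hX hgen hinj t.1 (hsurj t.1 t.2) (hlift t.1 t.2) r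
  have hWn : ∀ t : S, W t ≤ near X hX (f '' (S : Set T)) := fun t =>
    (hW2 t).trans (near_mono hX (by
      rintro _ rfl
      exact ⟨t.1, t.2, rfl⟩))
  obtain ⟨σ, hσ⟩ := exists_glue f r W (fun i j => injective_app f hX (S : Set T) hlift _
    (inf_le_left.trans (hWn i))) ρ hρ
  refine ⟨iSup W, σ, fun t ht => ⟨le_iSup W ⟨t, ht⟩ (hW1 ⟨t, ht⟩), fun y hy => ?_⟩⟩
  have hyW : f y ∈ W ⟨t, ht⟩ := (hy.map f.continuous).mem_open (W ⟨t, ht⟩).isOpen (hW1 ⟨t, ht⟩)
  have h1 : f y ∈ X.basicOpen σ ↔ f y ∈ X.basicOpen (ρ ⟨t, ht⟩) := by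
    rw [← hσ ⟨t, ht⟩, Scheme.basicOpen_res]
    exact ⟨fun h => ⟨hyW, h⟩, fun h => h.2⟩
  have h2 : f y ∈ X.basicOpen (ρ ⟨t, ht⟩) ↔ y ∈ T.basicOpen (f.app _ (ρ ⟨t, ht⟩)) := by
    rw [← Scheme.preimage_basicOpen]; rfl
  rw [h1, h2, hρ, Scheme.basicOpen_res]
  exact ⟨fun h => h.2, fun h => ⟨hyW, h⟩⟩

/-- A finite union of affine basic opens of sections over a qcqs open: finite sets of points are in
affine opens. -/
theorem exists_affineOpen_of_sections {X : Scheme.{u}} {ι : Type u} [Finite ι] (W : X.Opens) (τ : ι → Γ(X, W))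
    (hτ : ∀ i, IsAffineOpen (X.basicOpen (τ i))) (E : Set X) (hE : E.Finite)
    (hEτ : ∀ x ∈ E, ∃ i, x ∈ X.basicOpen (τ i)) :
    ∃ U : X.Opens, IsAffineOpen U ∧ E ⊆ U := by
  let U : X.Opens := ⨆ i, X.basicOpen (τ i)
  have hUW : U ≤ W := iSup_le fun i => X.basicOpen_le _
  have hUc : IsCompact (U : Set X) := by
    have h1 : ((U : X.Opens) : Set X) = ⋃ i, (X.basicOpen (τ i) : Set X) := Opens.coe_iSup _
    rw [h1]
    exact isCompact_iUnion fun i => (hτ i).isCompact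
  have hcomp : CompactSpace (U : Scheme.{u}) := isCompact_iff_compactSpace.mp hUc
  have key : ∀ i, ∃ s : Γ(U, ⊤), U.ι ''ᵁ (U : Scheme.{u}).basicOpen s = X.basicOpen (τ i) := by
    intro i
    refine ⟨U.topIso.inv (X.presheaf.map (homOfLE hUW).op (τ i)), ?_⟩
    rw [Scheme.Opens.ι_image_basicOpen']
    have h1 : X.presheaf.map (eqToHom U.ι_image_top.symm).op
        (U.topIso.inv (X.presheaf.map (homOfLE hUW).op (τ i))) = X.presheaf.map (homOfLE hUW).op (τ i) := by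
      have h2 : U.topIso.inv ≫ X.presheaf.map (eqToHom U.ι_image_top.symm).op = 𝟙 _ := U.topIso.inv_hom_id
      exact congrArg (fun φ => φ (X.presheaf.map (homOfLE hUW).op (τ i))) h2
    rw [h1, Scheme.basicOpen_res]
    exact inf_eq_right.mpr (le_iSup (fun i => X.basicOpen (τ i)) i)
  have hqa : (U : Scheme.{u}).IsQuasiAffine := by
    refine Scheme.IsQuasiAffine.of_forall_exists_mem_basicOpen _ fun x => ?_
    have hx : U.ι x ∈ U := x.2
    obtain ⟨i, hi⟩ := Opens.mem_iSup.mp hx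
    obtain ⟨s, hs⟩ := key i
    refine ⟨s, ?_, ?_⟩
    · rw [← Scheme.Hom.isAffineOpen_iff_of_isOpenImmersion U.ι, hs]
      exact hτ i
    · rw [← hs] at hi
      obtain ⟨z, hz, hzx⟩ := hi
      have : z = x := U.ι.isEmbedding.injective hzx
      rwa [← this]
  obtain ⟨s, hs1, hs2, -⟩ := Groth.Agent.S2127.exists_basicOpen (X := (U : Scheme.{u})) ⊤ (U.ι ⁻¹' E)
    (hE.preimage U.ι.isEmbedding.injective.injOn) (fun _ _ => trivial)
  refine ⟨U.ι ''ᵁ (U : Scheme.{u}).basicOpen s, ?_, ?_⟩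
  · rw [Scheme.Hom.isAffineOpen_iff_of_isOpenImmersion U.ι]; exact hs1
  · intro x hx
    obtain ⟨i, hi⟩ := hEτ x hx
    have hxU : x ∈ U := Opens.mem_iSup.mpr ⟨i, hi⟩
    exact ⟨⟨x, hxU⟩, hs2 hx, rfl⟩

/-- The reduced case. -/
theorem exists_affineOpen_of_isReduced [IsAffine T] [QuasiSeparatedSpace X]
    [IsReduced T] [IsReduced X] (hX : (irreducibleComponents (X : Type u)).Finite)
    (hgen : ∀ η : T, closure ({η} : Set T) ∈ irreducibleComponents (T : Type u) →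
      closure ({f η} : Set X) ∈ irreducibleComponents (X : Type u))
    (hinj : ∀ η η' : T, closure ({η} : Set T) ∈ irreducibleComponents (T : Type u) →
      closure ({η'} : Set T) ∈ irreducibleComponents (T : Type u) → f η = f η' → η = η')
    (S : Finset T) (hsurj : ∀ t ∈ S, Function.Surjective (f.stalkMap t))
    (hlift : ∀ t ∈ S, ∀ y, y ⤳ f t → ∃ y', y' ⤳ t ∧ f y' = y) :
    ∃ U : X.Opens, IsAffineOpen U ∧ ∀ t ∈ S, f t ∈ U := by
  classical
  -- affine neighbourhoods and functions on `T`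
  have h1 : ∀ k : S, ∃ V : X.Opens, IsAffineOpen V ∧ f k.1 ∈ V := by
    intro k
    obtain ⟨_, ⟨V, hV, rfl⟩, hx, -⟩ := X.isBasis_affineOpens.exists_subset_of_mem_open
      (Set.mem_univ (f k.1)) isOpen_univ
    exact ⟨V, hV, hx⟩
  choose V hV hfV using h1
  have h2 : ∀ k : S, ∃ r : Γ(T, ⊤), k.1 ∈ T.basicOpen r ∧ T.basicOpen r ≤ f ⁻¹ᵁ V k := by
    intro k
    obtain ⟨r, -, hr1, hr2⟩ := Groth.Agent.S2127.exists_basicOpen (X := T) (f ⁻¹ᵁ V k) {k.1}
      (Set.finite_singleton _) (by rintro _ rfl; exact hfV k)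
    exact ⟨r, hr1 rfl, hr2⟩
  choose r hr1 hr2 using h2
  choose W ρ hW using fun k : S => exists_sections f hX hgen hinj S hsurj hlift (r k)
  -- local neighbourhoods
  have h3 : ∀ k t : S, ∃ N : X.Opens, f t.1 ∈ N ∧ N ≤ W k ∧ N ⊓ X.basicOpen (ρ k) ≤ V k := by
    intro k t
    refine exists_affine_nbhd (W k) (ρ k) (V k) (f t.1) (hW k t.1 t.2).1 ?_
    intro y hy hyρ
    obtain ⟨y', hy', rfl⟩ := hlift t.1 t.2 y hy
    exact hr2 k (((hW k t.1 t.2).2 y' hy').mp hyρ)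
  choose N hN1 hN2 hN3 using h3
  have h4 : ∀ t : S, ∃ A : X.Opens, IsAffineOpen A ∧ f t.1 ∈ A ∧ ∀ k, A ≤ N k t := by
    intro t
    have hmem : f t.1 ∈ (Finset.univ.inf (fun k => N k t) : X.Opens) := by
      have : ((Finset.univ.inf (fun k => N k t) : X.Opens) : Set X) = ⋂ k ∈ Finset.univ, (N k t : Set X) := by
        rw [Opens.coe_finset_inf, Finset.inf_eq_iInf]; rfl
      show f t.1 ∈ ((Finset.univ.inf (fun k => N k t) : X.Opens) : Set X)
      rw [this]
      exact Set.mem_iInter₂.mpr fun k _ => hN1 k t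
    obtain ⟨_, ⟨A, hA, rfl⟩, hx, hle⟩ := X.isBasis_affineOpens.exists_subset_of_mem_open
      hmem (Finset.univ.inf (fun k => N k t) : X.Opens).isOpen
    exact ⟨A, hA, hx, fun k => le_trans hle (Finset.inf_le (Finset.mem_univ k))⟩
  choose A hA hfA hAN using h4
  let Ω : X.Opens := ⨆ t, A t
  have hΩW : ∀ k, Ω ≤ W k := fun k => iSup_le fun t => (hAN t k).trans (hN2 k t)
  have hfΩ : ∀ t : S, f t.1 ∈ Ω := fun t => le_iSup A t (hfA t)
  have hΩc : IsCompact Ω.1 := by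
    have h1 : (Ω : Set X) = ⋃ i, (A i : Set X) := Opens.coe_iSup _
    show IsCompact (Ω : Set X)
    rw [h1]
    exact isCompact_iUnion fun i => (hA i).isCompact
  have hΩs : IsQuasiSeparated Ω.1 := IsQuasiSeparated.of_quasiSeparatedSpace _
  let ρ' : ∀ k : S, Γ(X, Ω) := fun k => X.presheaf.map (homOfLE (hΩW k)).op (ρ k)
  have hρ' : ∀ k, X.basicOpen (ρ' k) = Ω ⊓ X.basicOpen (ρ k) := fun k => Scheme.basicOpen_res _ _ _
  have hρV : ∀ k, X.basicOpen (ρ' k) ≤ V k := by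
    intro k
    rw [hρ']
    rintro x ⟨hx1, hx2⟩
    obtain ⟨t, ht⟩ := Opens.mem_iSup.mp hx1
    exact hN3 k t ⟨hAN t k ht, hx2⟩
  have hfρ : ∀ k : S, f k.1 ∈ X.basicOpen (ρ' k) := by
    intro k
    rw [hρ']
    exact ⟨hfΩ k, ((hW k k.1 k.2).2 k.1 (specializes_refl _)).mpr (hr1 k)⟩
  have h5 : ∀ k : S, ∃ h : Γ(X, V k), f k.1 ∈ X.basicOpen h ∧ X.basicOpen h ≤ X.basicOpen (ρ' k) := by
    intro k
    obtain ⟨h, hh1, hh2⟩ := exists_basicOpen (hV k) (X.basicOpen (ρ' k)) {f k.1} (Set.finite_singleton _)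
      (by rintro _ rfl; exact hfV k) (by rintro _ rfl; exact hfρ k)
    exact ⟨h, hh1 rfl, hh2⟩
  choose h hh1 hh2 using h5
  have h6 : ∀ k : S, ∃ τ : Γ(X, Ω), X.basicOpen τ = X.basicOpen (h k) := by
    intro k
    let h' : Γ(X, X.basicOpen (ρ' k)) := X.presheaf.map (homOfLE (hρV k)).op (h k)
    have hh' : X.basicOpen h' = X.basicOpen (h k) := by
      rw [show X.basicOpen h' = X.basicOpen (ρ' k) ⊓ X.basicOpen (h k) from Scheme.basicOpen_res _ _ _]
      exact inf_eq_right.mpr (hh2 k)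
    obtain ⟨n, σ, hσ⟩ := exists_eq_pow_mul_of_isCompact_of_isQuasiSeparated X Ω hΩc hΩs (ρ' k) h'
    have hu : IsUnit ((ρ' k |_ X.basicOpen (ρ' k)) ^ n) := by
      exact (RingedSpace.isUnit_res_basicOpen _ (ρ' k)).pow n
    have hσ' : X.basicOpen (ρ' k) ⊓ X.basicOpen σ = X.basicOpen (h k) := by
      have e1 : X.basicOpen (σ |_ X.basicOpen (ρ' k)) = X.basicOpen (ρ' k) ⊓ X.basicOpen σ :=
        Scheme.basicOpen_res _ _ _
      rw [← e1, hσ, Scheme.basicOpen_mul, Scheme.basicOpen_of_isUnit _ hu, hh']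
      exact inf_eq_right.mpr (hh2 k)
    exact ⟨ρ' k * σ, by rw [Scheme.basicOpen_mul, hσ']⟩
  choose τ hτ using h6
  obtain ⟨U, hU, hEU⟩ := exists_affineOpen_of_sections (ι := S) Ω τ (fun k => by
    rw [hτ]; exact (hV k).basicOpen _) (f '' (S : Set T)) (S.finite_toSet.image _) (by
    rintro _ ⟨t, ht, rfl⟩
    exact ⟨⟨t, ht⟩, by rw [hτ]; exact hh1 ⟨t, ht⟩⟩)
  exact ⟨U, hU, fun t ht => hEU ⟨t, ht, rfl⟩⟩

end K422.AffineNbhd
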