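import Groth.Agent.Picfga.LineCocycle
import Groth.Agent.Fdesc.LocGenPullback
import Groth.Agent.Ega2.IsoCocycle

/-!
# Gluing invertible modules along a family of morphisms

`exists_glue`: let `W i` be an open cover of `X`, let `f k : Z k ⟶ X` be morphisms such that
`Γ(X, T) → ∏ Γ(Z k, f k ⁻¹ T)` is injective for `T ≤ W i ⊓ W j`, `i ≠ j`, and surjective for
`T = W i ⊓ W j`.  Then modules `N k` on `Z k` with generators on the `f k ⁻¹ W i` come from an
invertible module on `X`.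
-/

set_option autoImplicit false
universe u
open CategoryTheory CategoryTheory.Limits AlgebraicGeometry TopologicalSpace Opposite
open Groth.Agent.Fdesc.LocGen

namespace K422.GlueLine

lemma app_ores {X Z : Scheme.{u}} (f : Z ⟶ X) {U V : X.Opens} (h : V ≤ U) (a : Γ(X, U)) :
    (f.app V (ores h a) : Γ(Z, f ⁻¹ᵁ V)) = ores (f.preimage_mono h) (f.app U a : Γ(Z, f ⁻¹ᵁ U)) := by
  have := ConcreteCategory.congr_hom (f.naturality (homOfLE h).op) a
  exact this

theorem exists_glue {X : Scheme.{u}} {κ : Type*} {Z : κ → Scheme.{u}} (f : ∀ k, Z k ⟶ X)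
    (N : ∀ k, (Z k).Modules) {ι : Type u} (W : ι → X.Opens) (hW : ⨆ i, W i = ⊤)
    (n : ∀ i k, Γ(N k, f k ⁻¹ᵁ W i)) (hn : ∀ i k, IsGen (n i k))
    (hinj : ∀ i j, i ≠ j → ∀ T ≤ W i ⊓ W j, ∀ a b : Γ(X, T),
      (∀ k, ((f k).app T a : Γ(Z k, f k ⁻¹ᵁ T)) = (f k).app T b) → a = b)
    (hsurj : ∀ i j, i ≠ j → ∀ c : ∀ k, Γ(Z k, f k ⁻¹ᵁ (W i ⊓ W j)),
      ∃ a : Γ(X, W i ⊓ W j), ∀ k, ((f k).app (W i ⊓ W j) a : Γ(Z k, f k ⁻¹ᵁ (W i ⊓ W j))) = c k) :
    ∃ (L : X.Modules) (e : ∀ i, Γ(L, W i)), PicF.IsInvertible L ∧ (∀ i, IsGen (e i)) ∧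
      (∀ i j, ∃ g : Γ(X, W i ⊓ W j), res L inf_le_left (e i) = g • res L inf_le_right (e j) ∧
        ∀ k, res (N k) ((f k).preimage_mono inf_le_left) (n i k) =
          ((f k).app (W i ⊓ W j) g : Γ(Z k, f k ⁻¹ᵁ (W i ⊓ W j))) •
            res (N k) ((f k).preimage_mono inf_le_right) (n j k)) ∧
      ∀ k, Nonempty ((Scheme.Modules.pullback (f k)).obj L ≅ N k) := by
  classical
  have h1 : ∀ i j, ∃ g : Γ(X, W i ⊓ W j), (i = j → g = 1) ∧
      ∀ k, res (N k) ((f k).preimage_mono inf_le_left) (n i k) =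
        ((f k).app (W i ⊓ W j) g : Γ(Z k, f k ⁻¹ᵁ (W i ⊓ W j))) •
          res (N k) ((f k).preimage_mono inf_le_right) (n j k) := by
    intro i j
    by_cases hij : i = j
    · subst hij
      exact ⟨1, fun _ => rfl, fun k => by rw [map_one, one_smul]⟩
    · have h2 : ∀ k, ∃ c : Γ(Z k, f k ⁻¹ᵁ (W i ⊓ W j)),
          res (N k) ((f k).preimage_mono inf_le_left) (n i k) =
            c • res (N k) ((f k).preimage_mono inf_le_right) (n j k) := fun k =>
        ((hn j k).res ((f k).preimage_mono inf_le_right)).exists_eq _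
      choose c hc using h2
      obtain ⟨a, ha⟩ := hsurj i j hij c
      exact ⟨a, fun h => absurd h hij, fun k => by rw [ha k]; exact hc k⟩
  choose g hg1 hg using h1
  -- the transition relation on smaller opens
  have hgT : ∀ i j k (T : X.Opens) (hi : T ≤ W i) (hj : T ≤ W j),
      res (N k) ((f k).preimage_mono hi) (n i k) =
        ((f k).app T (ores (le_inf hi hj) (g i j)) : Γ(Z k, f k ⁻¹ᵁ T)) •
          res (N k) ((f k).preimage_mono hj) (n j k) := by
    intro i j k T hi hj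
    have := congrArg (res (N k) ((f k).preimage_mono (le_inf hi hj))) (hg i j k)
    rw [res_smul, res_res, res_res, ← app_ores] at this
    exact this
  have hcoc : ∀ i j k (T : X.Opens) (hi : T ≤ W i) (hj : T ≤ W j) (hk : T ≤ W k),
      ores (le_inf hi hk) (g i k) = ores (le_inf hi hj) (g i j) * ores (le_inf hj hk) (g j k) := by
    intro i j k T hi hj hk
    by_cases hall : i = j ∧ j = k
    · obtain ⟨rfl, rfl⟩ := hall
      rw [hg1 i i rfl, map_one, one_mul]
    · have hinj' : ∀ a b : Γ(X, T),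
          (∀ l, ((f l).app T a : Γ(Z l, f l ⁻¹ᵁ T)) = (f l).app T b) → a = b := by
        rw [not_and_or] at hall
        rcases hall with h | h
        · exact hinj i j h T (le_inf hi hj)
        · exact hinj j k h T (le_inf hj hk)
      apply hinj'
      intro l
      apply ((hn k l).res ((f l).preimage_mono hk)).ext
      rw [← hgT i k l T hi hk, map_mul, mul_smul, ← hgT j k l T hj hk, ← hgT i j l T hi hj]
  obtain ⟨L, e, he, hLe⟩ := Groth.Agent.Picfga.LineCocycle.exists_of_cocycle W g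
    (fun i => hg1 i i rfl) hcoc
  refine ⟨L, e, ?_, he, fun i j => ⟨g i j, hLe i j, fun k => hg i j k⟩, fun k => ?_⟩
  · rw [isInvertible_iff]
    intro x
    have hx : x ∈ ⨆ i, W i := by rw [hW]; trivial
    obtain ⟨i, hi⟩ := Opens.mem_iSup.mp hx
    exact ⟨W i, e i, hi, he i⟩
  · have hcov : ⨆ i, (f k ⁻¹ᵁ W i) = ⊤ := by
      rw [← Scheme.Hom.preimage_iSup, hW]; rfl
    have hrel : ∀ i j, ∃ a : Γ(Z k, (f k ⁻¹ᵁ W i) ⊓ (f k ⁻¹ᵁ W j)),
        res ((Scheme.Modules.pullback (f k)).obj L) inf_le_left (pullSec (f k) (e i)) =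
          a • res ((Scheme.Modules.pullback (f k)).obj L) inf_le_right (pullSec (f k) (e j)) ∧
        res (N k) inf_le_left (n i k) = a • res (N k) inf_le_right (n j k) := by
      intro i j
      refine ⟨((f k).app (W i ⊓ W j) (g i j) : Γ(Z k, f k ⁻¹ᵁ (W i ⊓ W j))), ?_, hg i j k⟩
      have h3 := congrArg (pullSec (f k)) (hLe i j)
      rw [pullSec_smul, ← res_pullSec, ← res_pullSec] at h3
      exact h3
    obtain ⟨φ, -⟩ := Groth.Agent.Ega2.IsoCocycle.exists_iso
      (M := (Scheme.Modules.pullback (f k)).obj L) (N := N k) (U := fun i => f k ⁻¹ᵁ W i)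
      (e := fun i => pullSec (f k) (e i)) (e' := fun i => n i k) hcov
      (fun i => (he i).pullSec (f k)) (fun i => hn i k) hrel
    exact ⟨φ⟩

end K422.GlueLine
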