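import Groth.Agent.S1640
import Mathlib.AlgebraicGeometry.Noetherian
import Mathlib.RingTheory.Localization.Away.Basic
import Mathlib.RingTheory.KrullDimension.Zero
import Mathlib.RingTheory.Spectrum.Prime.Topology

/-! Glueing one-dimensional semi-local Noetherian subrings of a field. -/

set_option autoImplicit false

universe u

namespace K422.SemilocalGlue

open Groth.Agent.VarietyB.SemilocalDedekind

/-- In a domain of dimension at most one, high powers of an element of the Jacobson radical kill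
denominators. -/
theorem exists_pow_mul_mem_jacobson {D : Type*} [CommRing D] [IsDomain D] [Ring.KrullDimLE 1 D]
    {K : Type*} [Field K] [Algebra D K] [IsFractionRing D K] (z : D)
    (hz : z ∈ (⊥ : Ideal D).jacobson) (y : K) :
    ∃ n : ℕ, ∀ m, n ≤ m → ∃ d : D, d ∈ (⊥ : Ideal D).jacobson ∧
      algebraMap D K d = algebraMap D K z ^ m * y := by
  obtain ⟨a, b, hb, rfl⟩ := IsFractionRing.div_surjective (A := D) y
  have hb0 : b ≠ 0 := nonZeroDivisors.ne_zero hb
  have hrad : z ∈ (Ideal.span {b}).radical := by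
    rw [Ideal.radical_eq_sInf, Ideal.mem_sInf]
    rintro P ⟨hIP, hP⟩
    have hP0 : P ≠ ⊥ := by
      rintro rfl
      apply hb0
      have := hIP (Ideal.mem_span_singleton_self b)
      rwa [Ideal.mem_bot] at this
    have hPm : P.IsMaximal := hP.isMaximal_of_ne_bot hP0
    rw [Ideal.jacobson, Ideal.mem_sInf] at hz
    exact hz ⟨bot_le, hPm⟩
  obtain ⟨k, hk⟩ := hrad
  obtain ⟨c, hc⟩ := Ideal.mem_span_singleton'.mp hk
  refine ⟨k + 1, fun m hm => ⟨z * (z ^ (m - (k + 1)) * c * a), Ideal.mul_mem_right _ _ hz, ?_⟩⟩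
  have hbK : algebraMap D K b ≠ 0 := by
    rw [ne_eq, map_eq_zero_iff _ (IsFractionRing.injective D K)]; exact hb0
  have h1 : z ^ m = z ^ (m - (k + 1)) * z ^ k * z := by
    rw [← pow_add, ← pow_succ]; congr 1; omega
  rw [← map_pow, h1, ← hc]
  simp only [map_mul]
  field_simp

/-- A glueing datum for a family of subrings of a field. -/
structure Datum {K : Type*} [Field K] {ι : Type*} (A : ι → Subring K) where
  /-- the elements -/
  v : ι → K
  ne_zero : ∀ i, v i ≠ 0
  mem : ∀ i j, v i ∈ A j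
  inv_mem : ∀ i, (v i)⁻¹ ∈ A i
  mem_jac : ∀ i j, i ≠ j → (⟨v i, mem i j⟩ : A j) ∈ (⊥ : Ideal (A j)).jacobson

section exists_datum

theorem exists_datum (K : Type u) [Field K] (r : ℕ)
    (A : Fin r → Subring K) [∀ i, IsNoetherianRing (A i)] [∀ i, IsFractionRing (A i) K]
    (hdim : ∀ i, ringKrullDim (A i) = 1) (hsl : ∀ i, Finite (MaximalSpectrum (A i)))
    (hgen : ∀ i j, i ≠ j → A i ⊔ A j = ⊤) : Nonempty (Datum A) := by
  classical
  have hdim' : ∀ i, Ring.KrullDimLE 1 (A i) := fun i ↦ krullDimLE_one _ (hdim i)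
  have hf : ∀ i, ¬ IsField (A i) := fun i ↦ not_isField _ (hdim i)
  have key : ∀ i, ∃ v : K, v ≠ 0 ∧ v ∈ A i ∧ v⁻¹ ∈ A i ∧ ∀ j, i ≠ j →
      ∃ h : v ∈ A j, (⟨v, h⟩ : A j) ∈ (⊥ : Ideal (A j)).jacobson := by
    intro i
    let e : Fin (Fintype.card {j // i ≠ j}) ≃ {j // i ≠ j} := (Fintype.equivFin _).symm
    obtain ⟨x, hxA, hx0, hx⟩ := Groth.Agent.S1640.result K (A i) (Fintype.card {j // i ≠ j})
      (fun k => A (e k).1) (fun k => hdim _) (fun k => hsl _) (fun k => hgen i (e k).1 (e k).2)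
    have hx' : ∀ j, i ≠ j → ∃ hx : x⁻¹ ∈ A j, (⟨x⁻¹, hx⟩ : A j) ∈ (⊥ : Ideal (A j)).jacobson := by
      intro j hj
      have := hx (e.symm ⟨j, hj⟩)
      rwa [e.apply_symm_apply] at this
    obtain ⟨y, hy0, hy⟩ := exists_mem_jacobson_ne_zero (A i) (hsl i) (hf i)
    have hyJ : y ∈ (⊥ : Ideal (A i)).jacobson := by
      rw [Ideal.jacobson, Ideal.mem_sInf]
      rintro M ⟨-, hM⟩
      exact hy ⟨M, hM⟩
    have hyK : (y : K) ≠ 0 := by simpa using hy0
    have hex : ∀ j, ∃ n : ℕ, i ≠ j → ∀ m, n ≤ m → ∃ d : A j, d ∈ (⊥ : Ideal (A j)).jacobson ∧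
        (d : K) = (x⁻¹) ^ m * (y : K)⁻¹ := by
      intro j
      by_cases hj : i = j
      · exact ⟨0, fun h => absurd hj h⟩
      · obtain ⟨h1, h2⟩ := hx' j hj
        obtain ⟨n, hn⟩ := exists_pow_mul_mem_jacobson (K := K) _ h2 (y : K)⁻¹
        exact ⟨n, fun _ => hn⟩
    choose n hn using hex
    let N := Finset.univ.sup n
    have hN : ∀ j, i ≠ j → ∃ d : A j, d ∈ (⊥ : Ideal (A j)).jacobson ∧
        (d : K) = (x⁻¹) ^ N * (y : K)⁻¹ := fun j hj =>
      hn j hj N (Finset.le_sup (f := n) (Finset.mem_univ j))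
    -- the unit of `A i`
    let w : A i := y * ⟨x, hxA⟩ ^ N
    have hwJ : w ∈ (⊥ : Ideal (A i)).jacobson := Ideal.mul_mem_right _ _ hyJ
    have hu : IsUnit (w * 1 + 1) := Ideal.mem_jacobson_bot.mp hwJ 1
    rw [mul_one] at hu
    obtain ⟨t, ht⟩ := hu
    have htK : ((t : A i) : K) = (y : K) * x ^ N + 1 := by
      rw [ht]; rfl
    have htinv : ((t⁻¹ : (A i)ˣ) : A i).1 = ((t : A i) : K)⁻¹ := by
      apply eq_inv_of_mul_eq_one_right
      have := congrArg Subtype.val t.mul_inv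
      exact this
    have ht0 : ((t : A i) : K) ≠ 0 := by
      intro h0
      have := t.ne_zero
      exact this (Subtype.ext h0)
    refine ⟨((t⁻¹ : (A i)ˣ) : A i).1, ?_, Subtype.property _, ?_, ?_⟩
    · rw [htinv]; exact inv_ne_zero ht0
    · rw [htinv, inv_inv]; exact Subtype.property _
    · intro j hj
      obtain ⟨d, hdJ, hd⟩ := hN j hj
      have hu2 : IsUnit (d * 1 + 1) := Ideal.mem_jacobson_bot.mp hdJ 1
      rw [mul_one] at hu2
      obtain ⟨s, hs⟩ := hu2
      have hsK : ((s : A j) : K) = (d : K) + 1 := by rw [hs]; rfl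
      have hsinv : ((s⁻¹ : (A j)ˣ) : A j).1 = ((s : A j) : K)⁻¹ := by
        apply eq_inv_of_mul_eq_one_right
        exact congrArg Subtype.val s.mul_inv
      have hs0 : ((s : A j) : K) ≠ 0 := by
        intro h0
        exact s.ne_zero (Subtype.ext h0)
      have heq : ((t⁻¹ : (A i)ˣ) : A i).1 = (d * ((s⁻¹ : (A j)ˣ) : A j) : A j).1 := by
        have h3 : (d * ((s⁻¹ : (A j)ˣ) : A j) : A j).1 = (d : K) * ((s⁻¹ : (A j)ˣ) : A j).1 := rfl
        rw [htinv, h3, hsinv, hsK, htK]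
        rw [hsK] at hs0
        rw [htK] at ht0
        rw [eq_comm, ← div_eq_mul_inv, div_eq_iff hs0, hd]
        have hxN : x ^ N ≠ 0 := pow_ne_zero _ hx0
        have ht0' : x ^ N * (y : K) + 1 ≠ 0 := by rwa [mul_comm]
        rw [inv_pow]
        field_simp
        rw [add_comm]
      refine ⟨?_, ?_⟩
      · rw [heq]; exact Subtype.property _
      · have : (⟨((t⁻¹ : (A i)ˣ) : A i).1, by rw [heq]; exact Subtype.property _⟩ : A j) =
            d * ((s⁻¹ : (A j)ˣ) : A j) := Subtype.ext heq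
        rw [this]
        exact Ideal.mul_mem_right _ _ hdJ
  choose v h1 h2 h3 h4 using key
  refine ⟨⟨v, h1, fun i j => ?_, h3, fun i j hij => ?_⟩⟩
  · by_cases hij : i = j
    · subst hij; exact h2 i
    · exact (h4 i j hij).1
  · exact (h4 i j hij).2

end exists_datum

section datum

variable {K : Type u} [Field K] {ι : Type} (A : ι → Subring K)

/-- The intersection. -/
abbrev R : Subring K := ⨅ i, A i

variable {A} (D : Datum A)

namespace Datum

theorem mem_R (i : ι) : D.v i ∈ R A := Subring.mem_iInf.mpr (D.mem i)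

/-- The elements of the datum as elements of the intersection. -/
def w (i : ι) : R A := ⟨D.v i, D.mem_R i⟩

theorem exists_pow_mul_mem [Fintype ι] [∀ i, IsFractionRing (A i) K] (hdim : ∀ i, Ring.KrullDimLE 1 (A i))
    (i : ι) (a : K) (ha : a ∈ A i) : ∃ n : ℕ, D.v i ^ n * a ∈ R A := by
  classical
  have h : ∀ j, ∃ n : ℕ, ∀ m, n ≤ m → D.v i ^ m * a ∈ A j := by
    intro j
    by_cases hij : i = j
    · subst hij
      exact ⟨0, fun m _ => (A i).mul_mem ((A i).pow_mem (D.mem i i) m) ha⟩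
    · have := hdim j
      obtain ⟨n, hn⟩ := exists_pow_mul_mem_jacobson (K := K) _ (D.mem_jac i j hij) a
      refine ⟨n, fun m hm => ?_⟩
      obtain ⟨d, -, hd⟩ := hn m hm
      have : D.v i ^ m * a = (d : K) := hd.symm
      rw [this]; exact d.2
  choose n hn using h
  exact ⟨Finset.univ.sup n, Subring.mem_iInf.mpr fun j =>
    hn j _ (Finset.le_sup (f := n) (Finset.mem_univ j))⟩

/-- `A i` as an algebra over the intersection. -/
@[reducible] def alg (A : ι → Subring K) (i : ι) : Algebra (R A) (A i) :=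
  (Subring.inclusion (iInf_le A i)).toAlgebra

theorem isUnit_w (i : ι) : IsUnit (Subring.inclusion (iInf_le A i) (D.w i)) := by
  refine IsUnit.of_mul_eq_one ⟨(D.v i)⁻¹, D.inv_mem i⟩ ?_
  apply Subtype.ext
  show D.v i * (D.v i)⁻¹ = 1
  exact mul_inv_cancel₀ (D.ne_zero i)

theorem isLocalization [Fintype ι] [∀ i, IsFractionRing (A i) K] (hdim : ∀ i, Ring.KrullDimLE 1 (A i)) (i : ι) :
    @IsLocalization.Away (R A) _ (D.w i) (A i) _ (alg A i) := by
  let _ := alg A i
  refine IsLocalization.Away.mk (D.w i) (D.isUnit_w i) ?_ ?_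
  · intro a
    obtain ⟨n, hn⟩ := D.exists_pow_mul_mem hdim i a a.2
    refine ⟨n, ⟨_, hn⟩, ?_⟩
    apply Subtype.ext
    show (a : K) * D.v i ^ n = D.v i ^ n * a
    rw [mul_comm]
  · intro a b hab
    refine ⟨0, ?_⟩
    have h : (a : K) = b := congrArg (fun z : A i => (z : K)) hab
    rw [Subtype.ext h]

theorem span_eq_top [Fintype ι] [Nonempty ι] : Ideal.span (Set.range D.w) = ⊤ := by
  classical
  rw [Ideal.eq_top_iff_one]
  have hsum : ∀ j, IsUnit (∑ i, (⟨D.v i, D.mem i j⟩ : A j)) := by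
    intro j
    rw [← Finset.add_sum_erase Finset.univ _ (Finset.mem_univ j)]
    have hJ : (∑ i ∈ Finset.univ.erase j, (⟨D.v i, D.mem i j⟩ : A j)) ∈ (⊥ : Ideal (A j)).jacobson :=
      Submodule.sum_mem _ fun i hi => D.mem_jac i j (Finset.ne_of_mem_erase hi)
    have hu : IsUnit (⟨D.v j, D.mem j j⟩ : A j) := by
      refine IsUnit.of_mul_eq_one ⟨(D.v j)⁻¹, D.inv_mem j⟩ ?_
      apply Subtype.ext
      show D.v j * (D.v j)⁻¹ = 1
      exact mul_inv_cancel₀ (D.ne_zero j)
    obtain ⟨t, ht⟩ := hu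
    have h1 := Ideal.mem_jacobson_bot.mp hJ (t⁻¹ : (A j)ˣ)
    have h2 := t.isUnit.mul h1
    convert h2 using 1
    rw [mul_add, mul_one, mul_comm _ ((t⁻¹ : (A j)ˣ) : A j), Units.mul_inv_cancel_left, ← ht, add_comm]
  have hval : ∀ j, ((∑ i, (⟨D.v i, D.mem i j⟩ : A j) : A j) : K) = ∑ i, D.v i := by
    intro j
    rw [AddSubmonoidClass.coe_finsetSum]
  have hinv : ∀ j, (∑ i, D.v i)⁻¹ ∈ A j := by
    intro j
    obtain ⟨t, ht⟩ := hsum j
    have h1 : ((t : A j) : K) = ∑ i, D.v i := by rw [ht, hval]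
    have h2 : ((t⁻¹ : (A j)ˣ) : A j).1 = (∑ i, D.v i)⁻¹ := by
      rw [← h1]
      apply eq_inv_of_mul_eq_one_right
      exact congrArg Subtype.val t.mul_inv
    rw [← h2]
    exact Subtype.property _
  have hne : (∑ i, D.v i) ≠ 0 := by
    obtain ⟨j⟩ := ‹Nonempty ι›
    intro h0
    have h1 := (hsum j).ne_zero
    apply h1
    apply Subtype.ext
    rw [hval, h0]
    rfl
  have h1 : (1 : R A) = ⟨(∑ i, D.v i)⁻¹, Subring.mem_iInf.mpr hinv⟩ * ∑ i, D.w i := by
    apply Subtype.ext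
    rw [Subring.coe_mul, AddSubmonoidClass.coe_finsetSum]
    show (1 : K) = (∑ i, D.v i)⁻¹ * ∑ i, D.v i
    rw [inv_mul_cancel₀ hne]
  rw [h1]
  exact Ideal.mul_mem_left _ _ (Submodule.sum_mem _ fun i _ => Ideal.subset_span ⟨i, rfl⟩)

variable [Fintype ι] [∀ i, IsFractionRing (A i) K] (hdim : ∀ i, Ring.KrullDimLE 1 (A i))

include D hdim

theorem isNoetherianRing [Nonempty ι] [∀ i, IsNoetherianRing (A i)] : IsNoetherianRing (R A) := by
  classical
  refine AlgebraicGeometry.isNoetherianRing_of_away (S := (Finset.univ : Finset ι).image D.w) ?_ ?_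
  · rw [Finset.coe_image, Finset.coe_univ, Set.image_univ]
    exact D.span_eq_top
  · rintro ⟨s, hs⟩
    obtain ⟨i, -, rfl⟩ := Finset.mem_image.mp hs
    let _ := alg A i
    have := D.isLocalization hdim i
    exact isNoetherianRing_of_ringEquiv (A i)
      (IsLocalization.algEquiv (Submonoid.powers (D.w i)) (A i) (Localization.Away (D.w i))).toRingEquiv

theorem isFractionRing [Nonempty ι] : IsFractionRing (R A) K := by
  obtain ⟨i⟩ := ‹Nonempty ι›
  refine IsFractionRing.of_field (R A) K fun z => ?_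
  obtain ⟨a, b, hb, rfl⟩ := IsFractionRing.div_surjective (A := A i) z
  obtain ⟨n, hn⟩ := D.exists_pow_mul_mem hdim i a a.2
  obtain ⟨m, hm⟩ := D.exists_pow_mul_mem hdim i b b.2
  refine ⟨⟨D.v i ^ m * (D.v i ^ n * a), (R A).mul_mem ((R A).pow_mem (D.mem_R i) m) hn⟩,
    ⟨D.v i ^ n * (D.v i ^ m * b), (R A).mul_mem ((R A).pow_mem (D.mem_R i) n) hm⟩, ?_⟩
  have hv := D.ne_zero i
  have hb0 : (b : K) ≠ 0 := by
    have := nonZeroDivisors.ne_zero hb
    intro h; exact this (Subtype.ext h)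
  show (a : K) / (b : K) = (D.v i ^ m * (D.v i ^ n * a)) / (D.v i ^ n * (D.v i ^ m * b))
  field_simp

theorem prime_aux (P : Ideal (R A)) (hP : P.IsPrime) (hP0 : P ≠ ⊥) (i : ι) (hi : D.w i ∉ P) :
    (P.map (Subring.inclusion (iInf_le A i))).IsMaximal ∧
      (P.map (Subring.inclusion (iInf_le A i))).comap (Subring.inclusion (iInf_le A i)) = P ∧
      ∀ j, j ≠ i → D.w j ∈ P := by
  let _ := alg A i
  have := D.isLocalization hdim i
  have hdisj : Disjoint (Submonoid.powers (D.w i) : Set (R A)) (P : Set (R A)) := by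
    rw [Set.disjoint_left]
    rintro _ ⟨n, rfl⟩ hn
    exact hi (hP.mem_of_pow_mem n hn)
  have h1 : (P.map (algebraMap (R A) (A i))).IsPrime :=
    IsLocalization.isPrime_of_isPrime_disjoint (Submonoid.powers (D.w i)) (A i) P hP hdisj
  have h2 : (P.map (algebraMap (R A) (A i))).under (R A) = P :=
    IsLocalization.under_map_of_isPrime_disjoint (Submonoid.powers (D.w i)) (A i) hP hdisj
  have h3 : P.map (algebraMap (R A) (A i)) ≠ ⊥ := by
    intro h0
    apply hP0
    rw [← h2, h0]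
    rw [eq_bot_iff]
    intro x hx
    have hx' : algebraMap (R A) (A i) x = 0 := hx
    rw [Ideal.mem_bot]
    apply Subtype.ext
    exact congrArg (fun z : A i => (z : K)) hx'
  have hd := hdim i
  have h4 : (P.map (algebraMap (R A) (A i))).IsMaximal := h1.isMaximal_of_ne_bot h3
  refine ⟨h4, h2, fun j hj => ?_⟩
  have h5 : (⟨D.v j, D.mem j i⟩ : A i) ∈ P.map (algebraMap (R A) (A i)) := by
    have := D.mem_jac j i hj
    rw [Ideal.jacobson, Ideal.mem_sInf] at this
    exact this ⟨bot_le, h4⟩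
  rw [← h2]
  exact h5

theorem exists_notMem (P : Ideal (R A)) [Nonempty ι] (hP : P.IsPrime) : ∃ i, D.w i ∉ P := by
  by_contra hcon
  push Not at hcon
  apply hP.ne_top
  rw [eq_top_iff, ← D.span_eq_top, Ideal.span_le]
  rintro _ ⟨i, rfl⟩
  exact hcon i

theorem isMaximal [Nonempty ι] (P : Ideal (R A)) (hP : P.IsPrime) (hP0 : P ≠ ⊥) : P.IsMaximal := by
  obtain ⟨i, hi⟩ := D.exists_notMem hdim P hP
  obtain ⟨h1, h2, h3⟩ := D.prime_aux hdim P hP hP0 i hi
  obtain ⟨Q, hQ, hPQ⟩ := Ideal.exists_le_maximal P hP.ne_top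
  have hQ0 : Q ≠ ⊥ := fun h => hP0 (le_bot_iff.mp (h ▸ hPQ))
  have hiQ : D.w i ∉ Q := by
    intro hmem
    obtain ⟨j, hj⟩ := D.exists_notMem hdim Q hQ.isPrime
    by_cases hji : j = i
    · subst hji; exact hj hmem
    · exact hj (hPQ (h3 j hji))
  obtain ⟨h4, h5, -⟩ := D.prime_aux hdim Q hQ.isPrime hQ0 i hiQ
  have h6 := h1.eq_of_le h4.ne_top (Ideal.map_mono hPQ)
  have h7 : P = Q := by rw [← h2, ← h5, h6]
  rw [h7]
  exact hQ

theorem not_isField [Nonempty ι] (hf : ∀ i, ¬ IsField (A i)) : ¬ IsField (R A) := by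
  intro h
  obtain ⟨i⟩ := ‹Nonempty ι›
  have : Nonempty ι := ⟨i⟩
  have hfr := D.isFractionRing hdim
  have hsurj : Function.Surjective (algebraMap (R A) K) := by
    let _ := h.toField
    intro z
    obtain ⟨a, b, hb, rfl⟩ := IsFractionRing.div_surjective (A := R A) z
    refine ⟨a * b⁻¹, ?_⟩
    rw [map_mul, div_eq_mul_inv, map_inv₀]
  apply hf i
  refine ⟨⟨0, 1, zero_ne_one⟩, mul_comm, ?_⟩
  intro a ha
  obtain ⟨b, hb⟩ := hsurj ((a : K)⁻¹)
  refine ⟨Subring.inclusion (iInf_le A i) b, ?_⟩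
  apply Subtype.ext
  show (a : K) * (b : K) = 1
  have hb' : (b : K) = (a : K)⁻¹ := hb
  rw [hb']
  exact mul_inv_cancel₀ (fun h => ha (Subtype.ext h))

theorem ringKrullDim_eq_one [Nonempty ι] (hf : ∀ i, ¬ IsField (A i)) : ringKrullDim (R A) = 1 := by
  have h1 : Ring.KrullDimLE 1 (R A) := Ring.KrullDimLE.mk₁' fun P hP hP' => D.isMaximal hdim P hP' hP
  refine le_antisymm (by exact_mod_cast (Ring.krullDimLE_iff.mp h1)) ?_
  by_contra hcon
  rw [not_le] at hcon
  have h2 : ringKrullDim (R A) ≤ 0 := by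
    generalize ringKrullDim (R A) = d at hcon
    induction d with
    | bot => exact bot_le
    | coe n =>
      have h : n < 1 := by exact_mod_cast hcon
      rw [ENat.lt_one_iff_eq_zero] at h
      rw [h]; rfl
  have h3 : Ring.KrullDimLE 0 (R A) := Ring.krullDimLE_iff.mpr (by exact_mod_cast h2)
  exact D.not_isField hdim hf Ring.KrullDimLE.isField_of_isDomain

theorem existsUnique_notMem [Nonempty ι] (P : Ideal (R A)) (hP : P.IsPrime) (hP0 : P ≠ ⊥) :
    ∃! i, D.w i ∉ P := by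
  obtain ⟨i, hi⟩ := D.exists_notMem hdim P hP
  refine ⟨i, hi, fun j hj => ?_⟩
  by_contra hne
  exact hj ((D.prime_aux hdim P hP hP0 i hi).2.2 j hne)

theorem finite_maximalSpectrum [Nonempty ι] (hf : ∀ i, ¬ IsField (A i))
    (hsl : ∀ i, Finite (MaximalSpectrum (A i))) : Finite (MaximalSpectrum (R A)) := by
  classical
  have hR := D.not_isField hdim hf
  have hne : ∀ m : MaximalSpectrum (R A), m.asIdeal ≠ ⊥ := fun m =>
    Ring.ne_bot_of_isMaximal_of_not_isField m.isMaximal hR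
  choose i hi using fun m : MaximalSpectrum (R A) => D.exists_notMem hdim m.asIdeal m.isMaximal.isPrime
  have key := fun m : MaximalSpectrum (R A) => D.prime_aux hdim m.asIdeal m.isMaximal.isPrime (hne m) (i m) (hi m)
  refine Finite.of_injective (β := Σ i, MaximalSpectrum (A i)) (fun m => ⟨i m, ⟨_, (key m).1⟩⟩) ?_
  intro m m' h
  have h1 := congrArg (fun x : Σ i, MaximalSpectrum (A i) =>
    x.2.asIdeal.comap (Subring.inclusion (iInf_le A x.1))) h
  exact MaximalSpectrum.ext (((key m).2.1.symm.trans h1).trans (key m').2.1)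

end Datum

end datum

end K422.SemilocalGlue
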